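import Mathlib
import Cfsg.Agent.Rec.L52.DataK
import Cfsg.Agent.Rec.L52.Trees

/-! Generated by tools/rec: listed subgroups of the sextet group -/

set_option autoImplicit false
set_option maxRecDepth 100000
set_option linter.unusedVariables false
set_option exponentiation.threshold 100000

namespace Cfsg.Agent.Wr

open Cfsg.Agent.Spor Cfsg.Agent.Rec Cfsg.Agent.Rec.L52

universe u

noncomputable def c7 : List ℕ := [(nat_lit 0x1010101010141), (nat_lit 0x1010101012101), (nat_lit 0x1010101110101), (nat_lit 0x1010109010101), (nat_lit 0x1010501010101), (nat_lit 0x1030101010101), (nat_lit 0x1010181010181), (nat_lit 0x1014101014101), (nat_lit 0x1018101018101), (nat_lit 0x1010101090909), (nat_lit 0x1010103010103), (nat_lit 0x1012121280808), (nat_lit 0x1008b1102c781)]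

theorem c7_eq : beqL ([0, 1, 2, 3, 4, 5, 6, 7, 8, 9, 10, 12, 14].map (nth A7.one (kN true false ++ A7.one :: (cK true false).drop 10))) c7 = true := by decide +kernel

noncomputable def T7_t : ST :=
(.node (nat_lit 0x1030101010101) (.node (nat_lit 0x1018101018101) (.node (nat_lit 0x1014101014101) (.node (nat_lit 0x1010501010101) (.node (nat_lit 0x1010181010181) (.node (nat_lit 0x1010109010101) (.node (nat_lit 0x1010101110101) (.node (nat_lit 0x1010101090909) (.node (nat_lit 0x1010101012101) (.node (nat_lit 0x1010101010141) (.leaf (nat_lit 0x1010101010101) (nat_lit 0))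
 (.leaf (nat_lit 0x1010101010141) (nat_lit 1025))
) (.node (nat_lit 0x1010101012141) (.leaf (nat_lit 0x1010101012101) (nat_lit 2049))
 (.leaf (nat_lit 0x1010101012141) (nat_lit 1538))
)) (.node (nat_lit 0x1010101092909) (.node (nat_lit 0x1010101090949) (.leaf (nat_lit 0x1010101090909) (nat_lit 256))
 (.leaf (nat_lit 0x1010101090949) (nat_lit 769))
) (.node (nat_lit 0x1010101092949) (.leaf (nat_lit 0x1010101092909) (nat_lit 1793))
 (.leaf (nat_lit 0x1010101092949) (nat_lit 1282))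
))) (.node (nat_lit 0x1010101190909) (.node (nat_lit 0x1010101112101) (.node (nat_lit 0x1010101110141) (.leaf (nat_lit 0x1010101110101) (nat_lit 3073))
 (.leaf (nat_lit 0x1010101110141) (nat_lit 2562))
) (.node (nat_lit 0x1010101112141) (.leaf (nat_lit 0x1010101112101) (nat_lit 2563))
 (.leaf (nat_lit 0x1010101112141) (nat_lit 2051))
)) (.node (nat_lit 0x1010101192909) (.node (nat_lit 0x1010101190949) (.leaf (nat_lit 0x1010101190909) (nat_lit 2817))
 (.leaf (nat_lit 0x1010101190949) (nat_lit 2306))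
) (.node (nat_lit 0x1010101192949) (.leaf (nat_lit 0x1010101192909) (nat_lit 2307))
 (.leaf (nat_lit 0x1010101192949) (nat_lit 1795))
)))) (.node (nat_lit 0x1010109110101) (.node (nat_lit 0x1010109090909) (.node (nat_lit 0x1010109012101) (.node (nat_lit 0x1010109010141) (.leaf (nat_lit 0x1010109010101) (nat_lit 257))
 (.leaf (nat_lit 0x1010109010141) (nat_lit 768))
) (.node (nat_lit 0x1010109012141) (.leaf (nat_lit 0x1010109012101) (nat_lit 1794))
 (.leaf (nat_lit 0x1010109012141) (nat_lit 1793))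
)) (.node (nat_lit 0x1010109092909) (.node (nat_lit 0x1010109090949) (.leaf (nat_lit 0x1010109090909) (nat_lit 513))
 (.leaf (nat_lit 0x1010109090949) (nat_lit 512))
) (.node (nat_lit 0x1010109092949) (.leaf (nat_lit 0x1010109092909) (nat_lit 1538))
 (.leaf (nat_lit 0x1010109092949) (nat_lit 1537))
))) (.node (nat_lit 0x1010109190909) (.node (nat_lit 0x1010109112101) (.node (nat_lit 0x1010109110141) (.leaf (nat_lit 0x1010109110101) (nat_lit 2818))
 (.leaf (nat_lit 0x1010109110141) (nat_lit 2817))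
) (.node (nat_lit 0x1010109112141) (.leaf (nat_lit 0x1010109112101) (nat_lit 2307))
 (.leaf (nat_lit 0x1010109112141) (nat_lit 2307))
)) (.node (nat_lit 0x1010109192909) (.node (nat_lit 0x1010109190949) (.leaf (nat_lit 0x1010109190909) (nat_lit 2562))
 (.leaf (nat_lit 0x1010109190949) (nat_lit 2561))
) (.node (nat_lit 0x1010109192949) (.leaf (nat_lit 0x1010109192909) (nat_lit 2051))
 (.leaf (nat_lit 0x1010109192949) (nat_lit 2051))
))))) (.node (nat_lit 0x1010189010181) (.node (nat_lit 0x1010181110181) (.node (nat_lit 0x1010181090d89) (.node (nat_lit 0x1010181012181) (.node (nat_lit 0x10101810101c1) (.leaf (nat_lit 0x1010181010181) (nat_lit 258))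
 (.leaf (nat_lit 0x10101810101c1) (nat_lit 1281))
) (.node (nat_lit 0x10101810121c1) (.leaf (nat_lit 0x1010181012181) (nat_lit 1793))
 (.leaf (nat_lit 0x10101810121c1) (nat_lit 1282))
)) (.node (nat_lit 0x1010181092d89) (.node (nat_lit 0x1010181090dc9) (.leaf (nat_lit 0x1010181090d89) (nat_lit 514))
 (.leaf (nat_lit 0x1010181090dc9) (nat_lit 1025))
) (.node (nat_lit 0x1010181092dc9) (.leaf (nat_lit 0x1010181092d89) (nat_lit 2049))
 (.leaf (nat_lit 0x1010181092dc9) (nat_lit 1026))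
))) (.node (nat_lit 0x1010181190d89) (.node (nat_lit 0x1010181112181) (.node (nat_lit 0x10101811101c1) (.leaf (nat_lit 0x1010181110181) (nat_lit 2819))
 (.leaf (nat_lit 0x10101811101c1) (nat_lit 2306))
) (.node (nat_lit 0x10101811121c1) (.leaf (nat_lit 0x1010181112181) (nat_lit 2818))
 (.leaf (nat_lit 0x10101811121c1) (nat_lit 2307))
)) (.node (nat_lit 0x1010181192d89) (.node (nat_lit 0x1010181190dc9) (.leaf (nat_lit 0x1010181190d89) (nat_lit 3075))
 (.leaf (nat_lit 0x1010181190dc9) (nat_lit 2050))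
) (.node (nat_lit 0x1010181192dc9) (.leaf (nat_lit 0x1010181192d89) (nat_lit 2562))
 (.leaf (nat_lit 0x1010181192dc9) (nat_lit 2051))
)))) (.node (nat_lit 0x1010189110181) (.node (nat_lit 0x1010189090d89) (.node (nat_lit 0x1010189012181) (.node (nat_lit 0x10101890101c1) (.leaf (nat_lit 0x1010189010181) (nat_lit 513))
 (.leaf (nat_lit 0x10101890101c1) (nat_lit 1024))
) (.node (nat_lit 0x10101890121c1) (.leaf (nat_lit 0x1010189012181) (nat_lit 1536))
 (.leaf (nat_lit 0x10101890121c1) (nat_lit 1537))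
)) (.node (nat_lit 0x1010189092d89) (.node (nat_lit 0x1010189090dc9) (.leaf (nat_lit 0x1010189090d89) (nat_lit 769))
 (.leaf (nat_lit 0x1010189090dc9) (nat_lit 768))
) (.node (nat_lit 0x1010189092dc9) (.leaf (nat_lit 0x1010189092d89) (nat_lit 1792))
 (.leaf (nat_lit 0x1010189092dc9) (nat_lit 1281))
))) (.node (nat_lit 0x1010189190d89) (.node (nat_lit 0x1010189112181) (.node (nat_lit 0x10101891101c1) (.leaf (nat_lit 0x1010189110181) (nat_lit 2560))
 (.leaf (nat_lit 0x10101891101c1) (nat_lit 2561))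
) (.node (nat_lit 0x10101891121c1) (.leaf (nat_lit 0x1010189112181) (nat_lit 2563))
 (.leaf (nat_lit 0x10101891121c1) (nat_lit 2563))
)) (.node (nat_lit 0x1010189192d89) (.node (nat_lit 0x1010189190dc9) (.leaf (nat_lit 0x1010189190d89) (nat_lit 2816))
 (.leaf (nat_lit 0x1010189190dc9) (nat_lit 2305))
) (.node (nat_lit 0x1010189192dc9) (.leaf (nat_lit 0x1010189192d89) (nat_lit 2307))
 (.leaf (nat_lit 0x1010189192dc9) (nat_lit 2307))
)))))) (.node (nat_lit 0x1010581010181) (.node (nat_lit 0x1010509010101) (.node (nat_lit 0x1010501110101) (.node (nat_lit 0x1010501090909) (.node (nat_lit 0x1010501012101) (.node (nat_lit 0x1010501010141) (.leaf (nat_lit 0x1010501010101) (nat_lit 1026))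
 (.leaf (nat_lit 0x1010501010141) (nat_lit 1538))
) (.node (nat_lit 0x1010501012141) (.leaf (nat_lit 0x1010501012101) (nat_lit 1538))
 (.leaf (nat_lit 0x1010501012141) (nat_lit 1537))
)) (.node (nat_lit 0x1010501092909) (.node (nat_lit 0x1010501090949) (.leaf (nat_lit 0x1010501090909) (nat_lit 1282))
 (.leaf (nat_lit 0x1010501090949) (nat_lit 1282))
) (.node (nat_lit 0x1010501092949) (.leaf (nat_lit 0x1010501092909) (nat_lit 1282))
 (.leaf (nat_lit 0x1010501092949) (nat_lit 1281))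
))) (.node (nat_lit 0x1010501190909) (.node (nat_lit 0x1010501112101) (.node (nat_lit 0x1010501110141) (.leaf (nat_lit 0x1010501110101) (nat_lit 3074))
 (.leaf (nat_lit 0x1010501110141) (nat_lit 3075))
) (.node (nat_lit 0x1010501112141) (.leaf (nat_lit 0x1010501112101) (nat_lit 3074))
 (.leaf (nat_lit 0x1010501112141) (nat_lit 3074))
)) (.node (nat_lit 0x1010501192909) (.node (nat_lit 0x1010501190949) (.leaf (nat_lit 0x1010501190909) (nat_lit 2818))
 (.leaf (nat_lit 0x1010501190949) (nat_lit 2819))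
) (.node (nat_lit 0x1010501192949) (.leaf (nat_lit 0x1010501192909) (nat_lit 2818))
 (.leaf (nat_lit 0x1010501192949) (nat_lit 2818))
)))) (.node (nat_lit 0x1010509110101) (.node (nat_lit 0x1010509090909) (.node (nat_lit 0x1010509012101) (.node (nat_lit 0x1010509010141) (.leaf (nat_lit 0x1010509010101) (nat_lit 770))
 (.leaf (nat_lit 0x1010509010141) (nat_lit 1794))
) (.node (nat_lit 0x1010509012141) (.leaf (nat_lit 0x1010509012101) (nat_lit 1793))
 (.leaf (nat_lit 0x1010509012141) (nat_lit 1282))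
)) (.node (nat_lit 0x1010509092909) (.node (nat_lit 0x1010509090949) (.leaf (nat_lit 0x1010509090909) (nat_lit 1026))
 (.leaf (nat_lit 0x1010509090949) (nat_lit 1538))
) (.node (nat_lit 0x1010509092949) (.leaf (nat_lit 0x1010509092909) (nat_lit 1537))
 (.leaf (nat_lit 0x1010509092949) (nat_lit 1026))
))) (.node (nat_lit 0x1010509190909) (.node (nat_lit 0x1010509112101) (.node (nat_lit 0x1010509110141) (.leaf (nat_lit 0x1010509110101) (nat_lit 2819))
 (.leaf (nat_lit 0x1010509110141) (nat_lit 2818))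
) (.node (nat_lit 0x1010509112141) (.leaf (nat_lit 0x1010509112101) (nat_lit 2818))
 (.leaf (nat_lit 0x1010509112141) (nat_lit 2818))
)) (.node (nat_lit 0x1010509192909) (.node (nat_lit 0x1010509190949) (.leaf (nat_lit 0x1010509190909) (nat_lit 2563))
 (.leaf (nat_lit 0x1010509190949) (nat_lit 2562))
) (.node (nat_lit 0x1010509192949) (.leaf (nat_lit 0x1010509192909) (nat_lit 2562))
 (.leaf (nat_lit 0x1010509192949) (nat_lit 2562))
))))) (.node (nat_lit 0x1010589010181) (.node (nat_lit 0x1010581110181) (.node (nat_lit 0x1010581090d89) (.node (nat_lit 0x1010581012181) (.node (nat_lit 0x10105810101c1) (.leaf (nat_lit 0x1010581010181) (nat_lit 769))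
 (.leaf (nat_lit 0x10105810101c1) (nat_lit 1280))
) (.node (nat_lit 0x10105810121c1) (.leaf (nat_lit 0x1010581012181) (nat_lit 1280))
 (.leaf (nat_lit 0x10105810121c1) (nat_lit 1281))
)) (.node (nat_lit 0x1010581092d89) (.node (nat_lit 0x1010581090dc9) (.leaf (nat_lit 0x1010581090d89) (nat_lit 1025))
 (.leaf (nat_lit 0x1010581090dc9) (nat_lit 1536))
) (.node (nat_lit 0x1010581092dc9) (.leaf (nat_lit 0x1010581092d89) (nat_lit 1024))
 (.leaf (nat_lit 0x1010581092dc9) (nat_lit 1025))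
))) (.node (nat_lit 0x1010581190d89) (.node (nat_lit 0x1010581112181) (.node (nat_lit 0x10105811101c1) (.leaf (nat_lit 0x1010581110181) (nat_lit 2819))
 (.leaf (nat_lit 0x10105811101c1) (nat_lit 2819))
) (.node (nat_lit 0x10105811121c1) (.leaf (nat_lit 0x1010581112181) (nat_lit 2817))
 (.leaf (nat_lit 0x10105811121c1) (nat_lit 2819))
)) (.node (nat_lit 0x1010581192d89) (.node (nat_lit 0x1010581190dc9) (.leaf (nat_lit 0x1010581190d89) (nat_lit 2563))
 (.leaf (nat_lit 0x1010581190dc9) (nat_lit 2563))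
) (.node (nat_lit 0x1010581192dc9) (.leaf (nat_lit 0x1010581192d89) (nat_lit 2561))
 (.leaf (nat_lit 0x1010581192dc9) (nat_lit 3075))
)))) (.node (nat_lit 0x1010589110181) (.node (nat_lit 0x1010589090d89) (.node (nat_lit 0x1010589012181) (.node (nat_lit 0x10105890101c1) (.leaf (nat_lit 0x1010589010181) (nat_lit 514))
 (.leaf (nat_lit 0x10105890101c1) (nat_lit 1537))
) (.node (nat_lit 0x10105890121c1) (.leaf (nat_lit 0x1010589012181) (nat_lit 1537))
 (.leaf (nat_lit 0x10105890121c1) (nat_lit 1026))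
)) (.node (nat_lit 0x1010589092d89) (.node (nat_lit 0x1010589090dc9) (.leaf (nat_lit 0x1010589090d89) (nat_lit 770))
 (.leaf (nat_lit 0x1010589090dc9) (nat_lit 1793))
) (.node (nat_lit 0x1010589092dc9) (.leaf (nat_lit 0x1010589092d89) (nat_lit 1281))
 (.leaf (nat_lit 0x1010589092dc9) (nat_lit 770))
))) (.node (nat_lit 0x1010589190d89) (.node (nat_lit 0x1010589112181) (.node (nat_lit 0x10105891101c1) (.leaf (nat_lit 0x1010589110181) (nat_lit 2563))
 (.leaf (nat_lit 0x10105891101c1) (nat_lit 2562))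
) (.node (nat_lit 0x10105891121c1) (.leaf (nat_lit 0x1010589112181) (nat_lit 2562))
 (.leaf (nat_lit 0x10105891121c1) (nat_lit 2563))
)) (.node (nat_lit 0x1010589192d89) (.node (nat_lit 0x1010589190dc9) (.leaf (nat_lit 0x1010589190d89) (nat_lit 2307))
 (.leaf (nat_lit 0x1010589190dc9) (nat_lit 2306))
) (.node (nat_lit 0x1010589192dc9) (.leaf (nat_lit 0x1010589192d89) (nat_lit 2306))
 (.leaf (nat_lit 0x1010589192dc9) (nat_lit 2819))
))))))) (.node (nat_lit 0x1014501014101) (.node (nat_lit 0x1014181014181) (.node (nat_lit 0x1014109014101) (.node (nat_lit 0x1014101114101) (.node (nat_lit 0x10141010b4909) (.node (nat_lit 0x1014101016101) (.node (nat_lit 0x1014101014141) (.leaf (nat_lit 0x1014101014101) (nat_lit 1027))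
 (.leaf (nat_lit 0x1014101014141) (nat_lit 2051))
) (.node (nat_lit 0x1014101016141) (.leaf (nat_lit 0x1014101016101) (nat_lit 2563))
 (.leaf (nat_lit 0x1014101016141) (nat_lit 2050))
)) (.node (nat_lit 0x10141010b6909) (.node (nat_lit 0x10141010b4949) (.leaf (nat_lit 0x10141010b4909) (nat_lit 1283))
 (.leaf (nat_lit 0x10141010b4949) (nat_lit 1795))
) (.node (nat_lit 0x10141010b6949) (.leaf (nat_lit 0x10141010b6909) (nat_lit 2819))
 (.leaf (nat_lit 0x10141010b6949) (nat_lit 1794))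
))) (.node (nat_lit 0x10141011b4909) (.node (nat_lit 0x1014101116101) (.node (nat_lit 0x1014101114141) (.leaf (nat_lit 0x1014101114101) (nat_lit 2563))
 (.leaf (nat_lit 0x1014101114141) (nat_lit 2051))
) (.node (nat_lit 0x1014101116141) (.leaf (nat_lit 0x1014101116101) (nat_lit 2562))
 (.leaf (nat_lit 0x1014101116141) (nat_lit 2051))
)) (.node (nat_lit 0x10141011b6909) (.node (nat_lit 0x10141011b4949) (.leaf (nat_lit 0x10141011b4909) (nat_lit 2819))
 (.leaf (nat_lit 0x10141011b4949) (nat_lit 1795))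
) (.node (nat_lit 0x10141011b6949) (.leaf (nat_lit 0x10141011b6909) (nat_lit 2818))
 (.leaf (nat_lit 0x10141011b6949) (nat_lit 1795))
)))) (.node (nat_lit 0x1014109114101) (.node (nat_lit 0x10141090b4909) (.node (nat_lit 0x1014109016101) (.node (nat_lit 0x1014109014141) (.leaf (nat_lit 0x1014109014101) (nat_lit 1283))
 (.leaf (nat_lit 0x1014109014141) (nat_lit 1795))
) (.node (nat_lit 0x1014109016141) (.leaf (nat_lit 0x1014109016101) (nat_lit 2304))
 (.leaf (nat_lit 0x1014109016141) (nat_lit 2305))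
)) (.node (nat_lit 0x10141090b6909) (.node (nat_lit 0x10141090b4949) (.leaf (nat_lit 0x10141090b4909) (nat_lit 1539))
 (.leaf (nat_lit 0x10141090b4949) (nat_lit 1539))
) (.node (nat_lit 0x10141090b6949) (.leaf (nat_lit 0x10141090b6909) (nat_lit 2560))
 (.leaf (nat_lit 0x10141090b6949) (nat_lit 2049))
))) (.node (nat_lit 0x10141091b4909) (.node (nat_lit 0x1014109116101) (.node (nat_lit 0x1014109114141) (.leaf (nat_lit 0x1014109114101) (nat_lit 2307))
 (.leaf (nat_lit 0x1014109114141) (nat_lit 2307))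
) (.node (nat_lit 0x1014109116141) (.leaf (nat_lit 0x1014109116101) (nat_lit 2307))
 (.leaf (nat_lit 0x1014109116141) (nat_lit 2307))
)) (.node (nat_lit 0x10141091b6909) (.node (nat_lit 0x10141091b4949) (.leaf (nat_lit 0x10141091b4909) (nat_lit 2563))
 (.leaf (nat_lit 0x10141091b4949) (nat_lit 2051))
) (.node (nat_lit 0x10141091b6949) (.leaf (nat_lit 0x10141091b6909) (nat_lit 2563))
 (.leaf (nat_lit 0x10141091b6949) (nat_lit 2051))
))))) (.node (nat_lit 0x1014189014181) (.node (nat_lit 0x1014181114181) (.node (nat_lit 0x10141810b4d89) (.node (nat_lit 0x1014181016181) (.node (nat_lit 0x10141810141c1) (.leaf (nat_lit 0x1014181014181) (nat_lit 771))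
 (.leaf (nat_lit 0x10141810141c1) (nat_lit 1795))
) (.node (nat_lit 0x10141810161c1) (.leaf (nat_lit 0x1014181016181) (nat_lit 2819))
 (.leaf (nat_lit 0x10141810161c1) (nat_lit 2306))
)) (.node (nat_lit 0x10141810b6d89) (.node (nat_lit 0x10141810b4dc9) (.leaf (nat_lit 0x10141810b4d89) (nat_lit 1027))
 (.leaf (nat_lit 0x10141810b4dc9) (nat_lit 1539))
) (.node (nat_lit 0x10141810b6dc9) (.leaf (nat_lit 0x10141810b6d89) (nat_lit 2563))
 (.leaf (nat_lit 0x10141810b6dc9) (nat_lit 2050))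
))) (.node (nat_lit 0x10141811b4d89) (.node (nat_lit 0x1014181116181) (.node (nat_lit 0x10141811141c1) (.leaf (nat_lit 0x1014181114181) (nat_lit 2818))
 (.leaf (nat_lit 0x10141811141c1) (nat_lit 2307))
) (.node (nat_lit 0x10141811161c1) (.leaf (nat_lit 0x1014181116181) (nat_lit 2307))
 (.leaf (nat_lit 0x10141811161c1) (nat_lit 1795))
)) (.node (nat_lit 0x10141811b6d89) (.node (nat_lit 0x10141811b4dc9) (.leaf (nat_lit 0x10141811b4d89) (nat_lit 3074))
 (.leaf (nat_lit 0x10141811b4dc9) (nat_lit 2051))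
) (.node (nat_lit 0x10141811b6dc9) (.leaf (nat_lit 0x10141811b6d89) (nat_lit 2563))
 (.leaf (nat_lit 0x10141811b6dc9) (nat_lit 1539))
)))) (.node (nat_lit 0x1014189114181) (.node (nat_lit 0x10141890b4d89) (.node (nat_lit 0x1014189016181) (.node (nat_lit 0x10141890141c1) (.leaf (nat_lit 0x1014189014181) (nat_lit 1027))
 (.leaf (nat_lit 0x10141890141c1) (nat_lit 1539))
) (.node (nat_lit 0x10141890161c1) (.leaf (nat_lit 0x1014189016181) (nat_lit 2562))
 (.leaf (nat_lit 0x10141890161c1) (nat_lit 2561))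
)) (.node (nat_lit 0x10141890b6d89) (.node (nat_lit 0x10141890b4dc9) (.leaf (nat_lit 0x10141890b4d89) (nat_lit 1283))
 (.leaf (nat_lit 0x10141890b4dc9) (nat_lit 1283))
) (.node (nat_lit 0x10141890b6dc9) (.leaf (nat_lit 0x10141890b6d89) (nat_lit 2306))
 (.leaf (nat_lit 0x10141890b6dc9) (nat_lit 2305))
))) (.node (nat_lit 0x10141891b4d89) (.node (nat_lit 0x1014189116181) (.node (nat_lit 0x10141891141c1) (.leaf (nat_lit 0x1014189114181) (nat_lit 2563))
 (.leaf (nat_lit 0x10141891141c1) (nat_lit 2563))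
) (.node (nat_lit 0x10141891161c1) (.leaf (nat_lit 0x1014189116181) (nat_lit 2051))
 (.leaf (nat_lit 0x10141891161c1) (nat_lit 2051))
)) (.node (nat_lit 0x10141891b6d89) (.node (nat_lit 0x10141891b4dc9) (.leaf (nat_lit 0x10141891b4d89) (nat_lit 2819))
 (.leaf (nat_lit 0x10141891b4dc9) (nat_lit 2307))
) (.node (nat_lit 0x10141891b6dc9) (.leaf (nat_lit 0x10141891b6d89) (nat_lit 2307))
 (.leaf (nat_lit 0x10141891b6dc9) (nat_lit 1795))
)))))) (.node (nat_lit 0x1014581014181) (.node (nat_lit 0x1014509014101) (.node (nat_lit 0x1014501114101) (.node (nat_lit 0x10145010b4909) (.node (nat_lit 0x1014501016101) (.node (nat_lit 0x1014501014141) (.leaf (nat_lit 0x1014501014101) (nat_lit 1539))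
 (.leaf (nat_lit 0x1014501014141) (nat_lit 2048))
) (.node (nat_lit 0x1014501016141) (.leaf (nat_lit 0x1014501016101) (nat_lit 2051))
 (.leaf (nat_lit 0x1014501016141) (nat_lit 2049))
)) (.node (nat_lit 0x10145010b6909) (.node (nat_lit 0x10145010b4949) (.leaf (nat_lit 0x10145010b4909) (nat_lit 1795))
 (.leaf (nat_lit 0x10145010b4949) (nat_lit 2304))
) (.node (nat_lit 0x10145010b6949) (.leaf (nat_lit 0x10145010b6909) (nat_lit 1795))
 (.leaf (nat_lit 0x10145010b6949) (nat_lit 1793))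
))) (.node (nat_lit 0x10145011b4909) (.node (nat_lit 0x1014501116101) (.node (nat_lit 0x1014501114141) (.leaf (nat_lit 0x1014501114101) (nat_lit 3072))
 (.leaf (nat_lit 0x1014501114141) (nat_lit 2051))
) (.node (nat_lit 0x1014501116141) (.leaf (nat_lit 0x1014501116101) (nat_lit 2561))
 (.leaf (nat_lit 0x1014501116141) (nat_lit 2051))
)) (.node (nat_lit 0x10145011b6909) (.node (nat_lit 0x10145011b4949) (.leaf (nat_lit 0x10145011b4909) (nat_lit 2816))
 (.leaf (nat_lit 0x10145011b4949) (nat_lit 1795))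
) (.node (nat_lit 0x10145011b6949) (.leaf (nat_lit 0x10145011b6909) (nat_lit 2817))
 (.leaf (nat_lit 0x10145011b6949) (nat_lit 2307))
)))) (.node (nat_lit 0x1014509114101) (.node (nat_lit 0x10145090b4909) (.node (nat_lit 0x1014509016101) (.node (nat_lit 0x1014509014141) (.leaf (nat_lit 0x1014509014101) (nat_lit 1282))
 (.leaf (nat_lit 0x1014509014141) (nat_lit 2307))
) (.node (nat_lit 0x1014509016141) (.leaf (nat_lit 0x1014509016101) (nat_lit 2307))
 (.leaf (nat_lit 0x1014509016141) (nat_lit 1794))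
)) (.node (nat_lit 0x10145090b6909) (.node (nat_lit 0x10145090b4949) (.leaf (nat_lit 0x10145090b4909) (nat_lit 1538))
 (.leaf (nat_lit 0x10145090b4949) (nat_lit 2563))
) (.node (nat_lit 0x10145090b6949) (.leaf (nat_lit 0x10145090b6909) (nat_lit 2051))
 (.leaf (nat_lit 0x10145090b6949) (nat_lit 1538))
))) (.node (nat_lit 0x10145091b4909) (.node (nat_lit 0x1014509116101) (.node (nat_lit 0x1014509114141) (.leaf (nat_lit 0x1014509114101) (nat_lit 2819))
 (.leaf (nat_lit 0x1014509114141) (nat_lit 2306))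
) (.node (nat_lit 0x1014509116141) (.leaf (nat_lit 0x1014509116101) (nat_lit 2306))
 (.leaf (nat_lit 0x1014509116141) (nat_lit 2307))
)) (.node (nat_lit 0x10145091b6909) (.node (nat_lit 0x10145091b4949) (.leaf (nat_lit 0x10145091b4909) (nat_lit 2563))
 (.leaf (nat_lit 0x10145091b4949) (nat_lit 2050))
) (.node (nat_lit 0x10145091b6949) (.leaf (nat_lit 0x10145091b6909) (nat_lit 2562))
 (.leaf (nat_lit 0x10145091b6949) (nat_lit 2563))
))))) (.node (nat_lit 0x1014589014181) (.node (nat_lit 0x1014581114181) (.node (nat_lit 0x10145810b4d89) (.node (nat_lit 0x1014581016181) (.node (nat_lit 0x10145810141c1) (.leaf (nat_lit 0x1014581014181) (nat_lit 1795))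
 (.leaf (nat_lit 0x10145810141c1) (nat_lit 2306))
) (.node (nat_lit 0x10145810161c1) (.leaf (nat_lit 0x1014581016181) (nat_lit 2307))
 (.leaf (nat_lit 0x10145810161c1) (nat_lit 2305))
)) (.node (nat_lit 0x10145810b6d89) (.node (nat_lit 0x10145810b4dc9) (.leaf (nat_lit 0x10145810b4d89) (nat_lit 2051))
 (.leaf (nat_lit 0x10145810b4dc9) (nat_lit 2050))
) (.node (nat_lit 0x10145810b6dc9) (.leaf (nat_lit 0x10145810b6d89) (nat_lit 2051))
 (.leaf (nat_lit 0x10145810b6dc9) (nat_lit 2049))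
))) (.node (nat_lit 0x10145811b4d89) (.node (nat_lit 0x1014581116181) (.node (nat_lit 0x10145811141c1) (.leaf (nat_lit 0x1014581114181) (nat_lit 2817))
 (.leaf (nat_lit 0x10145811141c1) (nat_lit 2307))
) (.node (nat_lit 0x10145811161c1) (.leaf (nat_lit 0x1014581116181) (nat_lit 2818))
 (.leaf (nat_lit 0x10145811161c1) (nat_lit 2307))
)) (.node (nat_lit 0x10145811b6d89) (.node (nat_lit 0x10145811b4dc9) (.leaf (nat_lit 0x10145811b4d89) (nat_lit 3073))
 (.leaf (nat_lit 0x10145811b4dc9) (nat_lit 2051))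
) (.node (nat_lit 0x10145811b6dc9) (.leaf (nat_lit 0x10145811b6d89) (nat_lit 3074))
 (.leaf (nat_lit 0x10145811b6dc9) (nat_lit 2051))
)))) (.node (nat_lit 0x1014589114181) (.node (nat_lit 0x10145890b4d89) (.node (nat_lit 0x1014589016181) (.node (nat_lit 0x10145890141c1) (.leaf (nat_lit 0x1014589014181) (nat_lit 1538))
 (.leaf (nat_lit 0x10145890141c1) (nat_lit 2562))
) (.node (nat_lit 0x10145890161c1) (.leaf (nat_lit 0x1014589016181) (nat_lit 2563))
 (.leaf (nat_lit 0x10145890161c1) (nat_lit 2050))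
)) (.node (nat_lit 0x10145890b6d89) (.node (nat_lit 0x10145890b4dc9) (.leaf (nat_lit 0x10145890b4d89) (nat_lit 1794))
 (.leaf (nat_lit 0x10145890b4dc9) (nat_lit 2306))
) (.node (nat_lit 0x10145890b6dc9) (.leaf (nat_lit 0x10145890b6d89) (nat_lit 2307))
 (.leaf (nat_lit 0x10145890b6dc9) (nat_lit 1794))
))) (.node (nat_lit 0x10145891b4d89) (.node (nat_lit 0x1014589116181) (.node (nat_lit 0x10145891141c1) (.leaf (nat_lit 0x1014589114181) (nat_lit 2562))
 (.leaf (nat_lit 0x10145891141c1) (nat_lit 2562))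
) (.node (nat_lit 0x10145891161c1) (.leaf (nat_lit 0x1014589116181) (nat_lit 2562))
 (.leaf (nat_lit 0x10145891161c1) (nat_lit 2562))
)) (.node (nat_lit 0x10145891b6d89) (.node (nat_lit 0x10145891b4dc9) (.leaf (nat_lit 0x10145891b4d89) (nat_lit 2818))
 (.leaf (nat_lit 0x10145891b4dc9) (nat_lit 2306))
) (.node (nat_lit 0x10145891b6dc9) (.leaf (nat_lit 0x10145891b6d89) (nat_lit 2818))
 (.leaf (nat_lit 0x10145891b6dc9) (nat_lit 2306))
)))))))) (.node (nat_lit 0x101c10101c101) (.node (nat_lit 0x1018501018101) (.node (nat_lit 0x1018181018181) (.node (nat_lit 0x1018109018101) (.node (nat_lit 0x1018101118101) (.node (nat_lit 0x10181010d8909) (.node (nat_lit 0x101810101a101) (.node (nat_lit 0x1018101018141) (.leaf (nat_lit 0x1018101018101) (nat_lit 259))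
 (.leaf (nat_lit 0x1018101018141) (nat_lit 1283))
) (.node (nat_lit 0x101810101a141) (.leaf (nat_lit 0x101810101a101) (nat_lit 2305))
 (.leaf (nat_lit 0x101810101a141) (nat_lit 1794))
)) (.node (nat_lit 0x10181010da909) (.node (nat_lit 0x10181010d8949) (.leaf (nat_lit 0x10181010d8909) (nat_lit 515))
 (.leaf (nat_lit 0x10181010d8949) (nat_lit 1027))
) (.node (nat_lit 0x10181010da949) (.leaf (nat_lit 0x10181010da909) (nat_lit 2049))
 (.leaf (nat_lit 0x10181010da949) (nat_lit 1538))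
))) (.node (nat_lit 0x10181011d8909) (.node (nat_lit 0x101810111a101) (.node (nat_lit 0x1018101118141) (.leaf (nat_lit 0x1018101118101) (nat_lit 2818))
 (.leaf (nat_lit 0x1018101118141) (nat_lit 2819))
) (.node (nat_lit 0x101810111a141) (.leaf (nat_lit 0x101810111a101) (nat_lit 2307))
 (.leaf (nat_lit 0x101810111a141) (nat_lit 1795))
)) (.node (nat_lit 0x10181011da909) (.node (nat_lit 0x10181011d8949) (.leaf (nat_lit 0x10181011d8909) (nat_lit 3074))
 (.leaf (nat_lit 0x10181011d8949) (nat_lit 2563))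
) (.node (nat_lit 0x10181011da949) (.leaf (nat_lit 0x10181011da909) (nat_lit 2051))
 (.leaf (nat_lit 0x10181011da949) (nat_lit 1539))
)))) (.node (nat_lit 0x1018109118101) (.node (nat_lit 0x10181090d8909) (.node (nat_lit 0x101810901a101) (.node (nat_lit 0x1018109018141) (.leaf (nat_lit 0x1018109018101) (nat_lit 515))
 (.leaf (nat_lit 0x1018109018141) (nat_lit 1027))
) (.node (nat_lit 0x101810901a141) (.leaf (nat_lit 0x101810901a101) (nat_lit 2050))
 (.leaf (nat_lit 0x101810901a141) (nat_lit 2049))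
)) (.node (nat_lit 0x10181090da909) (.node (nat_lit 0x10181090d8949) (.leaf (nat_lit 0x10181090d8909) (nat_lit 771))
 (.leaf (nat_lit 0x10181090d8949) (nat_lit 771))
) (.node (nat_lit 0x10181090da949) (.leaf (nat_lit 0x10181090da909) (nat_lit 1794))
 (.leaf (nat_lit 0x10181090da949) (nat_lit 1793))
))) (.node (nat_lit 0x10181091d8909) (.node (nat_lit 0x101810911a101) (.node (nat_lit 0x1018109118141) (.leaf (nat_lit 0x1018109118101) (nat_lit 3075))
 (.leaf (nat_lit 0x1018109118141) (nat_lit 3075))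
) (.node (nat_lit 0x101810911a141) (.leaf (nat_lit 0x101810911a101) (nat_lit 2051))
 (.leaf (nat_lit 0x101810911a141) (nat_lit 2051))
)) (.node (nat_lit 0x10181091da909) (.node (nat_lit 0x10181091d8949) (.leaf (nat_lit 0x10181091d8909) (nat_lit 2819))
 (.leaf (nat_lit 0x10181091d8949) (nat_lit 2819))
) (.node (nat_lit 0x10181091da949) (.leaf (nat_lit 0x10181091da909) (nat_lit 1795))
 (.leaf (nat_lit 0x10181091da949) (nat_lit 1795))
))))) (.node (nat_lit 0x1018189018181) (.node (nat_lit 0x1018181118181) (.node (nat_lit 0x10181810d8d89) (.node (nat_lit 0x101818101a181) (.node (nat_lit 0x10181810181c1) (.leaf (nat_lit 0x1018181018181) (nat_lit 514))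
 (.leaf (nat_lit 0x10181810181c1) (nat_lit 1537))
) (.node (nat_lit 0x101818101a1c1) (.leaf (nat_lit 0x101818101a181) (nat_lit 2049))
 (.leaf (nat_lit 0x101818101a1c1) (nat_lit 1538))
)) (.node (nat_lit 0x10181810dad89) (.node (nat_lit 0x10181810d8dc9) (.leaf (nat_lit 0x10181810d8d89) (nat_lit 770))
 (.leaf (nat_lit 0x10181810d8dc9) (nat_lit 1281))
) (.node (nat_lit 0x10181810dadc9) (.leaf (nat_lit 0x10181810dad89) (nat_lit 2305))
 (.leaf (nat_lit 0x10181810dadc9) (nat_lit 1282))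
))) (.node (nat_lit 0x10181811d8d89) (.node (nat_lit 0x101818111a181) (.node (nat_lit 0x10181811181c1) (.leaf (nat_lit 0x1018181118181) (nat_lit 2561))
 (.leaf (nat_lit 0x10181811181c1) (nat_lit 2050))
) (.node (nat_lit 0x101818111a1c1) (.leaf (nat_lit 0x101818111a181) (nat_lit 2562))
 (.leaf (nat_lit 0x101818111a1c1) (nat_lit 2563))
)) (.node (nat_lit 0x10181811dad89) (.node (nat_lit 0x10181811d8dc9) (.leaf (nat_lit 0x10181811d8d89) (nat_lit 2817))
 (.leaf (nat_lit 0x10181811d8dc9) (nat_lit 1794))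
) (.node (nat_lit 0x10181811dadc9) (.leaf (nat_lit 0x10181811dad89) (nat_lit 2306))
 (.leaf (nat_lit 0x10181811dadc9) (nat_lit 2307))
)))) (.node (nat_lit 0x1018189118181) (.node (nat_lit 0x10181890d8d89) (.node (nat_lit 0x101818901a181) (.node (nat_lit 0x10181890181c1) (.leaf (nat_lit 0x1018189018181) (nat_lit 769))
 (.leaf (nat_lit 0x10181890181c1) (nat_lit 1280))
) (.node (nat_lit 0x101818901a1c1) (.leaf (nat_lit 0x101818901a181) (nat_lit 1792))
 (.leaf (nat_lit 0x101818901a1c1) (nat_lit 1793))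
)) (.node (nat_lit 0x10181890dad89) (.node (nat_lit 0x10181890d8dc9) (.leaf (nat_lit 0x10181890d8d89) (nat_lit 1025))
 (.leaf (nat_lit 0x10181890d8dc9) (nat_lit 1024))
) (.node (nat_lit 0x10181890dadc9) (.leaf (nat_lit 0x10181890dad89) (nat_lit 2048))
 (.leaf (nat_lit 0x10181890dadc9) (nat_lit 1537))
))) (.node (nat_lit 0x10181891d8d89) (.node (nat_lit 0x101818911a181) (.node (nat_lit 0x10181891181c1) (.leaf (nat_lit 0x1018189118181) (nat_lit 2304))
 (.leaf (nat_lit 0x10181891181c1) (nat_lit 2305))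
) (.node (nat_lit 0x101818911a1c1) (.leaf (nat_lit 0x101818911a181) (nat_lit 2817))
 (.leaf (nat_lit 0x101818911a1c1) (nat_lit 2819))
)) (.node (nat_lit 0x10181891dad89) (.node (nat_lit 0x10181891d8dc9) (.leaf (nat_lit 0x10181891d8d89) (nat_lit 2560))
 (.leaf (nat_lit 0x10181891d8dc9) (nat_lit 2049))
) (.node (nat_lit 0x10181891dadc9) (.leaf (nat_lit 0x10181891dad89) (nat_lit 2561))
 (.leaf (nat_lit 0x10181891dadc9) (nat_lit 2563))
)))))) (.node (nat_lit 0x1018581018181) (.node (nat_lit 0x1018509018101) (.node (nat_lit 0x1018501118101) (.node (nat_lit 0x10185010d8909) (.node (nat_lit 0x101850101a101) (.node (nat_lit 0x1018501018141) (.leaf (nat_lit 0x1018501018101) (nat_lit 1282))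
 (.leaf (nat_lit 0x1018501018141) (nat_lit 1794))
) (.node (nat_lit 0x101850101a141) (.leaf (nat_lit 0x101850101a101) (nat_lit 1794))
 (.leaf (nat_lit 0x101850101a141) (nat_lit 1793))
)) (.node (nat_lit 0x10185010da909) (.node (nat_lit 0x10185010d8949) (.leaf (nat_lit 0x10185010d8909) (nat_lit 1538))
 (.leaf (nat_lit 0x10185010d8949) (nat_lit 1538))
) (.node (nat_lit 0x10185010da949) (.leaf (nat_lit 0x10185010da909) (nat_lit 1538))
 (.leaf (nat_lit 0x10185010da949) (nat_lit 1537))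
))) (.node (nat_lit 0x10185011d8909) (.node (nat_lit 0x101850111a101) (.node (nat_lit 0x1018501118141) (.leaf (nat_lit 0x1018501118101) (nat_lit 2818))
 (.leaf (nat_lit 0x1018501118141) (nat_lit 2819))
) (.node (nat_lit 0x101850111a141) (.leaf (nat_lit 0x101850111a101) (nat_lit 2818))
 (.leaf (nat_lit 0x101850111a141) (nat_lit 2818))
)) (.node (nat_lit 0x10185011da909) (.node (nat_lit 0x10185011d8949) (.leaf (nat_lit 0x10185011d8909) (nat_lit 3074))
 (.leaf (nat_lit 0x10185011d8949) (nat_lit 2563))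
) (.node (nat_lit 0x10185011da949) (.leaf (nat_lit 0x10185011da909) (nat_lit 2562))
 (.leaf (nat_lit 0x10185011da949) (nat_lit 2562))
)))) (.node (nat_lit 0x1018509118101) (.node (nat_lit 0x10185090d8909) (.node (nat_lit 0x101850901a101) (.node (nat_lit 0x1018509018141) (.leaf (nat_lit 0x1018509018101) (nat_lit 1026))
 (.leaf (nat_lit 0x1018509018141) (nat_lit 2050))
) (.node (nat_lit 0x101850901a141) (.leaf (nat_lit 0x101850901a101) (nat_lit 2049))
 (.leaf (nat_lit 0x101850901a141) (nat_lit 1538))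
)) (.node (nat_lit 0x10185090da909) (.node (nat_lit 0x10185090d8949) (.leaf (nat_lit 0x10185090d8909) (nat_lit 1282))
 (.leaf (nat_lit 0x10185090d8949) (nat_lit 1794))
) (.node (nat_lit 0x10185090da949) (.leaf (nat_lit 0x10185090da909) (nat_lit 1793))
 (.leaf (nat_lit 0x10185090da949) (nat_lit 1282))
))) (.node (nat_lit 0x10185091d8909) (.node (nat_lit 0x101850911a101) (.node (nat_lit 0x1018509118141) (.leaf (nat_lit 0x1018509118101) (nat_lit 2562))
 (.leaf (nat_lit 0x1018509118141) (nat_lit 3074))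
) (.node (nat_lit 0x101850911a141) (.leaf (nat_lit 0x101850911a101) (nat_lit 3074))
 (.leaf (nat_lit 0x101850911a141) (nat_lit 2562))
)) (.node (nat_lit 0x10185091da909) (.node (nat_lit 0x10185091d8949) (.leaf (nat_lit 0x10185091d8909) (nat_lit 2818))
 (.leaf (nat_lit 0x10185091d8949) (nat_lit 2818))
) (.node (nat_lit 0x10185091da949) (.leaf (nat_lit 0x10185091da909) (nat_lit 2818))
 (.leaf (nat_lit 0x10185091da949) (nat_lit 2306))
))))) (.node (nat_lit 0x1018589018181) (.node (nat_lit 0x1018581118181) (.node (nat_lit 0x10185810d8d89) (.node (nat_lit 0x101858101a181) (.node (nat_lit 0x10185810181c1) (.leaf (nat_lit 0x1018581018181) (nat_lit 1025))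
 (.leaf (nat_lit 0x10185810181c1) (nat_lit 1536))
) (.node (nat_lit 0x101858101a1c1) (.leaf (nat_lit 0x101858101a181) (nat_lit 1536))
 (.leaf (nat_lit 0x101858101a1c1) (nat_lit 1537))
)) (.node (nat_lit 0x10185810dad89) (.node (nat_lit 0x10185810d8dc9) (.leaf (nat_lit 0x10185810d8d89) (nat_lit 1281))
 (.leaf (nat_lit 0x10185810d8dc9) (nat_lit 1792))
) (.node (nat_lit 0x10185810dadc9) (.leaf (nat_lit 0x10185810dad89) (nat_lit 1280))
 (.leaf (nat_lit 0x10185810dadc9) (nat_lit 1281))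
))) (.node (nat_lit 0x10185811d8d89) (.node (nat_lit 0x101858111a181) (.node (nat_lit 0x10185811181c1) (.leaf (nat_lit 0x1018581118181) (nat_lit 2560))
 (.leaf (nat_lit 0x10185811181c1) (nat_lit 2561))
) (.node (nat_lit 0x101858111a1c1) (.leaf (nat_lit 0x101858111a181) (nat_lit 2561))
 (.leaf (nat_lit 0x101858111a1c1) (nat_lit 2560))
)) (.node (nat_lit 0x10185811dad89) (.node (nat_lit 0x10185811d8dc9) (.leaf (nat_lit 0x10185811d8d89) (nat_lit 2816))
 (.leaf (nat_lit 0x10185811d8dc9) (nat_lit 2305))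
) (.node (nat_lit 0x10185811dadc9) (.leaf (nat_lit 0x10185811dad89) (nat_lit 2305))
 (.leaf (nat_lit 0x10185811dadc9) (nat_lit 2816))
)))) (.node (nat_lit 0x1018589118181) (.node (nat_lit 0x10185890d8d89) (.node (nat_lit 0x101858901a181) (.node (nat_lit 0x10185890181c1) (.leaf (nat_lit 0x1018589018181) (nat_lit 770))
 (.leaf (nat_lit 0x10185890181c1) (nat_lit 1793))
) (.node (nat_lit 0x101858901a1c1) (.leaf (nat_lit 0x101858901a181) (nat_lit 1793))
 (.leaf (nat_lit 0x101858901a1c1) (nat_lit 1282))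
)) (.node (nat_lit 0x10185890dad89) (.node (nat_lit 0x10185890d8dc9) (.leaf (nat_lit 0x10185890d8d89) (nat_lit 1026))
 (.leaf (nat_lit 0x10185890d8dc9) (nat_lit 2049))
) (.node (nat_lit 0x10185890dadc9) (.leaf (nat_lit 0x10185890dad89) (nat_lit 1537))
 (.leaf (nat_lit 0x10185890dadc9) (nat_lit 1026))
))) (.node (nat_lit 0x10185891d8d89) (.node (nat_lit 0x101858911a181) (.node (nat_lit 0x10185891181c1) (.leaf (nat_lit 0x1018589118181) (nat_lit 2819))
 (.leaf (nat_lit 0x10185891181c1) (nat_lit 2306))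
) (.node (nat_lit 0x101858911a1c1) (.leaf (nat_lit 0x101858911a181) (nat_lit 2306))
 (.leaf (nat_lit 0x101858911a1c1) (nat_lit 2819))
)) (.node (nat_lit 0x10185891dad89) (.node (nat_lit 0x10185891d8dc9) (.leaf (nat_lit 0x10185891d8d89) (nat_lit 2563))
 (.leaf (nat_lit 0x10185891d8dc9) (nat_lit 2050))
) (.node (nat_lit 0x10185891dadc9) (.leaf (nat_lit 0x10185891dad89) (nat_lit 2050))
 (.leaf (nat_lit 0x10185891dadc9) (nat_lit 3075))
))))))) (.node (nat_lit 0x101c50101c101) (.node (nat_lit 0x101c18101c181) (.node (nat_lit 0x101c10901c101) (.node (nat_lit 0x101c10111c101) (.node (nat_lit 0x101c1010fc909) (.node (nat_lit 0x101c10101e101) (.node (nat_lit 0x101c10101c141) (.leaf (nat_lit 0x101c10101c101) (nat_lit 770))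
 (.leaf (nat_lit 0x101c10101c141) (nat_lit 1793))
) (.node (nat_lit 0x101c10101e141) (.leaf (nat_lit 0x101c10101e101) (nat_lit 2305))
 (.leaf (nat_lit 0x101c10101e141) (nat_lit 1794))
)) (.node (nat_lit 0x101c1010fe909) (.node (nat_lit 0x101c1010fc949) (.leaf (nat_lit 0x101c1010fc909) (nat_lit 1026))
 (.leaf (nat_lit 0x101c1010fc949) (nat_lit 1537))
) (.node (nat_lit 0x101c1010fe949) (.leaf (nat_lit 0x101c1010fe909) (nat_lit 2561))
 (.leaf (nat_lit 0x101c1010fe949) (nat_lit 1538))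
))) (.node (nat_lit 0x101c1011fc909) (.node (nat_lit 0x101c10111e101) (.node (nat_lit 0x101c10111c141) (.leaf (nat_lit 0x101c10111c101) (nat_lit 2305))
 (.leaf (nat_lit 0x101c10111c141) (nat_lit 1794))
) (.node (nat_lit 0x101c10111e141) (.leaf (nat_lit 0x101c10111e101) (nat_lit 2306))
 (.leaf (nat_lit 0x101c10111e141) (nat_lit 2307))
)) (.node (nat_lit 0x101c1011fe909) (.node (nat_lit 0x101c1011fc949) (.leaf (nat_lit 0x101c1011fc909) (nat_lit 2561))
 (.leaf (nat_lit 0x101c1011fc949) (nat_lit 1538))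
) (.node (nat_lit 0x101c1011fe949) (.leaf (nat_lit 0x101c1011fe909) (nat_lit 2562))
 (.leaf (nat_lit 0x101c1011fe949) (nat_lit 2051))
)))) (.node (nat_lit 0x101c10911c101) (.node (nat_lit 0x101c1090fc909) (.node (nat_lit 0x101c10901e101) (.node (nat_lit 0x101c10901c141) (.leaf (nat_lit 0x101c10901c101) (nat_lit 1025))
 (.leaf (nat_lit 0x101c10901c141) (nat_lit 1536))
) (.node (nat_lit 0x101c10901e141) (.leaf (nat_lit 0x101c10901e101) (nat_lit 2048))
 (.leaf (nat_lit 0x101c10901e141) (nat_lit 2049))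
)) (.node (nat_lit 0x101c1090fe909) (.node (nat_lit 0x101c1090fc949) (.leaf (nat_lit 0x101c1090fc909) (nat_lit 1281))
 (.leaf (nat_lit 0x101c1090fc949) (nat_lit 1280))
) (.node (nat_lit 0x101c1090fe949) (.leaf (nat_lit 0x101c1090fe909) (nat_lit 2304))
 (.leaf (nat_lit 0x101c1090fe949) (nat_lit 1793))
))) (.node (nat_lit 0x101c1091fc909) (.node (nat_lit 0x101c10911e101) (.node (nat_lit 0x101c10911c141) (.leaf (nat_lit 0x101c10911c101) (nat_lit 2048))
 (.leaf (nat_lit 0x101c10911c141) (nat_lit 2049))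
) (.node (nat_lit 0x101c10911e141) (.leaf (nat_lit 0x101c10911e101) (nat_lit 2561))
 (.leaf (nat_lit 0x101c10911e141) (nat_lit 2563))
)) (.node (nat_lit 0x101c1091fe909) (.node (nat_lit 0x101c1091fc949) (.leaf (nat_lit 0x101c1091fc909) (nat_lit 2304))
 (.leaf (nat_lit 0x101c1091fc949) (nat_lit 1793))
) (.node (nat_lit 0x101c1091fe949) (.leaf (nat_lit 0x101c1091fe909) (nat_lit 2817))
 (.leaf (nat_lit 0x101c1091fe949) (nat_lit 2307))
))))) (.node (nat_lit 0x101c18901c181) (.node (nat_lit 0x101c18111c181) (.node (nat_lit 0x101c1810fcd89) (.node (nat_lit 0x101c18101e181) (.node (nat_lit 0x101c18101c1c1) (.leaf (nat_lit 0x101c18101c181) (nat_lit 515))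
 (.leaf (nat_lit 0x101c18101c1c1) (nat_lit 1539))
) (.node (nat_lit 0x101c18101e1c1) (.leaf (nat_lit 0x101c18101e181) (nat_lit 2561))
 (.leaf (nat_lit 0x101c18101e1c1) (nat_lit 2050))
)) (.node (nat_lit 0x101c1810fed89) (.node (nat_lit 0x101c1810fcdc9) (.leaf (nat_lit 0x101c1810fcd89) (nat_lit 771))
 (.leaf (nat_lit 0x101c1810fcdc9) (nat_lit 1283))
) (.node (nat_lit 0x101c1810fedc9) (.leaf (nat_lit 0x101c1810fed89) (nat_lit 2305))
 (.leaf (nat_lit 0x101c1810fedc9) (nat_lit 1794))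
))) (.node (nat_lit 0x101c1811fcd89) (.node (nat_lit 0x101c18111e181) (.node (nat_lit 0x101c18111c1c1) (.leaf (nat_lit 0x101c18111c181) (nat_lit 2562))
 (.leaf (nat_lit 0x101c18111c1c1) (nat_lit 2563))
) (.node (nat_lit 0x101c18111e1c1) (.leaf (nat_lit 0x101c18111e181) (nat_lit 2051))
 (.leaf (nat_lit 0x101c18111e1c1) (nat_lit 1539))
)) (.node (nat_lit 0x101c1811fed89) (.node (nat_lit 0x101c1811fcdc9) (.leaf (nat_lit 0x101c1811fcd89) (nat_lit 2818))
 (.leaf (nat_lit 0x101c1811fcdc9) (nat_lit 2307))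
) (.node (nat_lit 0x101c1811fedc9) (.leaf (nat_lit 0x101c1811fed89) (nat_lit 2307))
 (.leaf (nat_lit 0x101c1811fedc9) (nat_lit 1283))
)))) (.node (nat_lit 0x101c18911c181) (.node (nat_lit 0x101c1890fcd89) (.node (nat_lit 0x101c18901e181) (.node (nat_lit 0x101c18901c1c1) (.leaf (nat_lit 0x101c18901c181) (nat_lit 771))
 (.leaf (nat_lit 0x101c18901c1c1) (nat_lit 1283))
) (.node (nat_lit 0x101c18901e1c1) (.leaf (nat_lit 0x101c18901e181) (nat_lit 2306))
 (.leaf (nat_lit 0x101c18901e1c1) (nat_lit 2305))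
)) (.node (nat_lit 0x101c1890fed89) (.node (nat_lit 0x101c1890fcdc9) (.leaf (nat_lit 0x101c1890fcd89) (nat_lit 1027))
 (.leaf (nat_lit 0x101c1890fcdc9) (nat_lit 1027))
) (.node (nat_lit 0x101c1890fedc9) (.leaf (nat_lit 0x101c1890fed89) (nat_lit 2050))
 (.leaf (nat_lit 0x101c1890fedc9) (nat_lit 2049))
))) (.node (nat_lit 0x101c1891fcd89) (.node (nat_lit 0x101c18911e181) (.node (nat_lit 0x101c18911c1c1) (.leaf (nat_lit 0x101c18911c181) (nat_lit 2817))
 (.leaf (nat_lit 0x101c18911c1c1) (nat_lit 2819))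
) (.node (nat_lit 0x101c18911e1c1) (.leaf (nat_lit 0x101c18911e181) (nat_lit 1795))
 (.leaf (nat_lit 0x101c18911e1c1) (nat_lit 1795))
)) (.node (nat_lit 0x101c1891fed89) (.node (nat_lit 0x101c1891fcdc9) (.leaf (nat_lit 0x101c1891fcd89) (nat_lit 3073))
 (.leaf (nat_lit 0x101c1891fcdc9) (nat_lit 2563))
) (.node (nat_lit 0x101c1891fedc9) (.leaf (nat_lit 0x101c1891fed89) (nat_lit 2051))
 (.leaf (nat_lit 0x101c1891fedc9) (nat_lit 1539))
)))))) (.node (nat_lit 0x101c58101c181) (.node (nat_lit 0x101c50901c101) (.node (nat_lit 0x101c50111c101) (.node (nat_lit 0x101c5010fc909) (.node (nat_lit 0x101c50101e101) (.node (nat_lit 0x101c50101c141) (.leaf (nat_lit 0x101c50101c101) (nat_lit 1281))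
 (.leaf (nat_lit 0x101c50101c141) (nat_lit 1792))
) (.node (nat_lit 0x101c50101e141) (.leaf (nat_lit 0x101c50101e101) (nat_lit 1792))
 (.leaf (nat_lit 0x101c50101e141) (nat_lit 1793))
)) (.node (nat_lit 0x101c5010fe909) (.node (nat_lit 0x101c5010fc949) (.leaf (nat_lit 0x101c5010fc909) (nat_lit 1537))
 (.leaf (nat_lit 0x101c5010fc949) (nat_lit 2048))
) (.node (nat_lit 0x101c5010fe949) (.leaf (nat_lit 0x101c5010fe909) (nat_lit 1536))
 (.leaf (nat_lit 0x101c5010fe949) (nat_lit 1537))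
))) (.node (nat_lit 0x101c5011fc909) (.node (nat_lit 0x101c50111e101) (.node (nat_lit 0x101c50111c141) (.leaf (nat_lit 0x101c50111c101) (nat_lit 2816))
 (.leaf (nat_lit 0x101c50111c141) (nat_lit 2305))
) (.node (nat_lit 0x101c50111e141) (.leaf (nat_lit 0x101c50111e101) (nat_lit 2305))
 (.leaf (nat_lit 0x101c50111e141) (nat_lit 2304))
)) (.node (nat_lit 0x101c5011fe909) (.node (nat_lit 0x101c5011fc949) (.leaf (nat_lit 0x101c5011fc909) (nat_lit 2560))
 (.leaf (nat_lit 0x101c5011fc949) (nat_lit 2049))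
) (.node (nat_lit 0x101c5011fe949) (.leaf (nat_lit 0x101c5011fe909) (nat_lit 2561))
 (.leaf (nat_lit 0x101c5011fe949) (nat_lit 2560))
)))) (.node (nat_lit 0x101c50911c101) (.node (nat_lit 0x101c5090fc909) (.node (nat_lit 0x101c50901e101) (.node (nat_lit 0x101c50901c141) (.leaf (nat_lit 0x101c50901c101) (nat_lit 1026))
 (.leaf (nat_lit 0x101c50901c141) (nat_lit 2049))
) (.node (nat_lit 0x101c50901e141) (.leaf (nat_lit 0x101c50901e101) (nat_lit 2049))
 (.leaf (nat_lit 0x101c50901e141) (nat_lit 1538))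
)) (.node (nat_lit 0x101c5090fe909) (.node (nat_lit 0x101c5090fc949) (.leaf (nat_lit 0x101c5090fc909) (nat_lit 1282))
 (.leaf (nat_lit 0x101c5090fc949) (nat_lit 2305))
) (.node (nat_lit 0x101c5090fe949) (.leaf (nat_lit 0x101c5090fe909) (nat_lit 1793))
 (.leaf (nat_lit 0x101c5090fe949) (nat_lit 1282))
))) (.node (nat_lit 0x101c5091fc909) (.node (nat_lit 0x101c50911e101) (.node (nat_lit 0x101c50911c141) (.leaf (nat_lit 0x101c50911c101) (nat_lit 3073))
 (.leaf (nat_lit 0x101c50911c141) (nat_lit 2050))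
) (.node (nat_lit 0x101c50911e141) (.leaf (nat_lit 0x101c50911e101) (nat_lit 2050))
 (.leaf (nat_lit 0x101c50911e141) (nat_lit 2561))
)) (.node (nat_lit 0x101c5091fe909) (.node (nat_lit 0x101c5091fc949) (.leaf (nat_lit 0x101c5091fc909) (nat_lit 2817))
 (.leaf (nat_lit 0x101c5091fc949) (nat_lit 1794))
) (.node (nat_lit 0x101c5091fe949) (.leaf (nat_lit 0x101c5091fe909) (nat_lit 2306))
 (.leaf (nat_lit 0x101c5091fe949) (nat_lit 2817))
))))) (.node (nat_lit 0x101c58901c181) (.node (nat_lit 0x101c58111c181) (.node (nat_lit 0x101c5810fcd89) (.node (nat_lit 0x101c58101e181) (.node (nat_lit 0x101c58101c1c1) (.leaf (nat_lit 0x101c58101c181) (nat_lit 1538))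
 (.leaf (nat_lit 0x101c58101c1c1) (nat_lit 2050))
) (.node (nat_lit 0x101c58101e1c1) (.leaf (nat_lit 0x101c58101e181) (nat_lit 2050))
 (.leaf (nat_lit 0x101c58101e1c1) (nat_lit 2049))
)) (.node (nat_lit 0x101c5810fed89) (.node (nat_lit 0x101c5810fcdc9) (.leaf (nat_lit 0x101c5810fcd89) (nat_lit 1794))
 (.leaf (nat_lit 0x101c5810fcdc9) (nat_lit 1794))
) (.node (nat_lit 0x101c5810fedc9) (.leaf (nat_lit 0x101c5810fed89) (nat_lit 1794))
 (.leaf (nat_lit 0x101c5810fedc9) (nat_lit 1793))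
))) (.node (nat_lit 0x101c5811fcd89) (.node (nat_lit 0x101c58111e181) (.node (nat_lit 0x101c58111c1c1) (.leaf (nat_lit 0x101c58111c181) (nat_lit 2561))
 (.leaf (nat_lit 0x101c58111c1c1) (nat_lit 2563))
) (.node (nat_lit 0x101c58111e1c1) (.leaf (nat_lit 0x101c58111e181) (nat_lit 2562))
 (.leaf (nat_lit 0x101c58111e1c1) (nat_lit 2562))
)) (.node (nat_lit 0x101c5811fed89) (.node (nat_lit 0x101c5811fcdc9) (.leaf (nat_lit 0x101c5811fcd89) (nat_lit 2817))
 (.leaf (nat_lit 0x101c5811fcdc9) (nat_lit 2307))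
) (.node (nat_lit 0x101c5811fedc9) (.leaf (nat_lit 0x101c5811fed89) (nat_lit 2818))
 (.leaf (nat_lit 0x101c5811fedc9) (nat_lit 2306))
)))) (.node (nat_lit 0x101c58911c181) (.node (nat_lit 0x101c5890fcd89) (.node (nat_lit 0x101c58901e181) (.node (nat_lit 0x101c58901c1c1) (.leaf (nat_lit 0x101c58901c181) (nat_lit 1282))
 (.leaf (nat_lit 0x101c58901c1c1) (nat_lit 2306))
) (.node (nat_lit 0x101c58901e1c1) (.leaf (nat_lit 0x101c58901e181) (nat_lit 2305))
 (.leaf (nat_lit 0x101c58901e1c1) (nat_lit 1794))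
)) (.node (nat_lit 0x101c5890fed89) (.node (nat_lit 0x101c5890fcdc9) (.leaf (nat_lit 0x101c5890fcd89) (nat_lit 1538))
 (.leaf (nat_lit 0x101c5890fcdc9) (nat_lit 2050))
) (.node (nat_lit 0x101c5890fedc9) (.leaf (nat_lit 0x101c5890fed89) (nat_lit 2049))
 (.leaf (nat_lit 0x101c5890fedc9) (nat_lit 1538))
))) (.node (nat_lit 0x101c5891fcd89) (.node (nat_lit 0x101c58911e181) (.node (nat_lit 0x101c58911c1c1) (.leaf (nat_lit 0x101c58911c181) (nat_lit 2306))
 (.leaf (nat_lit 0x101c58911c1c1) (nat_lit 2818))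
) (.node (nat_lit 0x101c58911e1c1) (.leaf (nat_lit 0x101c58911e181) (nat_lit 2818))
 (.leaf (nat_lit 0x101c58911e1c1) (nat_lit 2306))
)) (.node (nat_lit 0x101c5891fed89) (.node (nat_lit 0x101c5891fcdc9) (.leaf (nat_lit 0x101c5891fcd89) (nat_lit 2562))
 (.leaf (nat_lit 0x101c5891fcdc9) (nat_lit 2562))
) (.node (nat_lit 0x101c5891fedc9) (.leaf (nat_lit 0x101c5891fed89) (nat_lit 3074))
 (.leaf (nat_lit 0x101c5891fedc9) (nat_lit 2050))
))))))))) (.node (nat_lit 0x1038101018101) (.node (nat_lit 0x1034101014101) (.node (nat_lit 0x1030501010101) (.node (nat_lit 0x1030181010181) (.node (nat_lit 0x1030109010101) (.node (nat_lit 0x1030101110101) (.node (nat_lit 0x1030101090909) (.node (nat_lit 0x1030101012101) (.node (nat_lit 0x1030101010141) (.leaf (nat_lit 0x1030101010101) (nat_lit 2050))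
 (.leaf (nat_lit 0x1030101010141) (nat_lit 2562))
) (.node (nat_lit 0x1030101012141) (.leaf (nat_lit 0x1030101012101) (nat_lit 3074))
 (.leaf (nat_lit 0x1030101012141) (nat_lit 2563))
)) (.node (nat_lit 0x1030101092909) (.node (nat_lit 0x1030101090949) (.leaf (nat_lit 0x1030101090909) (nat_lit 2306))
 (.leaf (nat_lit 0x1030101090949) (nat_lit 2306))
) (.node (nat_lit 0x1030101092949) (.leaf (nat_lit 0x1030101092909) (nat_lit 2818))
 (.leaf (nat_lit 0x1030101092949) (nat_lit 2307))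
))) (.node (nat_lit 0x1030101190909) (.node (nat_lit 0x1030101112101) (.node (nat_lit 0x1030101110141) (.leaf (nat_lit 0x1030101110101) (nat_lit 2562))
 (.leaf (nat_lit 0x1030101110141) (nat_lit 2561))
) (.node (nat_lit 0x1030101112141) (.leaf (nat_lit 0x1030101112101) (nat_lit 3074))
 (.leaf (nat_lit 0x1030101112141) (nat_lit 2562))
)) (.node (nat_lit 0x1030101192909) (.node (nat_lit 0x1030101190949) (.leaf (nat_lit 0x1030101190909) (nat_lit 2306))
 (.leaf (nat_lit 0x1030101190949) (nat_lit 2305))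
) (.node (nat_lit 0x1030101192949) (.leaf (nat_lit 0x1030101192909) (nat_lit 2818))
 (.leaf (nat_lit 0x1030101192949) (nat_lit 2306))
)))) (.node (nat_lit 0x1030109110101) (.node (nat_lit 0x1030109090909) (.node (nat_lit 0x1030109012101) (.node (nat_lit 0x1030109010141) (.leaf (nat_lit 0x1030109010101) (nat_lit 1794))
 (.leaf (nat_lit 0x1030109010141) (nat_lit 2818))
) (.node (nat_lit 0x1030109012141) (.leaf (nat_lit 0x1030109012101) (nat_lit 2819))
 (.leaf (nat_lit 0x1030109012141) (nat_lit 2818))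
)) (.node (nat_lit 0x1030109092909) (.node (nat_lit 0x1030109090949) (.leaf (nat_lit 0x1030109090909) (nat_lit 2050))
 (.leaf (nat_lit 0x1030109090949) (nat_lit 2562))
) (.node (nat_lit 0x1030109092949) (.leaf (nat_lit 0x1030109092909) (nat_lit 2563))
 (.leaf (nat_lit 0x1030109092949) (nat_lit 2562))
))) (.node (nat_lit 0x1030109190909) (.node (nat_lit 0x1030109112101) (.node (nat_lit 0x1030109110141) (.leaf (nat_lit 0x1030109110101) (nat_lit 2817))
 (.leaf (nat_lit 0x1030109110141) (nat_lit 2306))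
) (.node (nat_lit 0x1030109112141) (.leaf (nat_lit 0x1030109112101) (nat_lit 2818))
 (.leaf (nat_lit 0x1030109112141) (nat_lit 2818))
)) (.node (nat_lit 0x1030109192909) (.node (nat_lit 0x1030109190949) (.leaf (nat_lit 0x1030109190909) (nat_lit 2561))
 (.leaf (nat_lit 0x1030109190949) (nat_lit 2050))
) (.node (nat_lit 0x1030109192949) (.leaf (nat_lit 0x1030109192909) (nat_lit 2562))
 (.leaf (nat_lit 0x1030109192949) (nat_lit 2562))
))))) (.node (nat_lit 0x1030189010181) (.node (nat_lit 0x1030181110181) (.node (nat_lit 0x1030181090d89) (.node (nat_lit 0x1030181012181) (.node (nat_lit 0x10301810101c1) (.leaf (nat_lit 0x1030181010181) (nat_lit 1795))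
 (.leaf (nat_lit 0x10301810101c1) (nat_lit 2304))
) (.node (nat_lit 0x10301810121c1) (.leaf (nat_lit 0x1030181012181) (nat_lit 2819))
 (.leaf (nat_lit 0x10301810121c1) (nat_lit 2307))
)) (.node (nat_lit 0x1030181092d89) (.node (nat_lit 0x1030181090dc9) (.leaf (nat_lit 0x1030181090d89) (nat_lit 2051))
 (.leaf (nat_lit 0x1030181090dc9) (nat_lit 2560))
) (.node (nat_lit 0x1030181092dc9) (.leaf (nat_lit 0x1030181092d89) (nat_lit 2563))
 (.leaf (nat_lit 0x1030181092dc9) (nat_lit 2051))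
))) (.node (nat_lit 0x1030181190d89) (.node (nat_lit 0x1030181112181) (.node (nat_lit 0x10301811101c1) (.leaf (nat_lit 0x1030181110181) (nat_lit 2307))
 (.leaf (nat_lit 0x10301811101c1) (nat_lit 2305))
) (.node (nat_lit 0x10301811121c1) (.leaf (nat_lit 0x1030181112181) (nat_lit 2817))
 (.leaf (nat_lit 0x10301811121c1) (nat_lit 2307))
)) (.node (nat_lit 0x1030181192d89) (.node (nat_lit 0x1030181190dc9) (.leaf (nat_lit 0x1030181190d89) (nat_lit 2051))
 (.leaf (nat_lit 0x1030181190dc9) (nat_lit 2049))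
) (.node (nat_lit 0x1030181192dc9) (.leaf (nat_lit 0x1030181192d89) (nat_lit 2561))
 (.leaf (nat_lit 0x1030181192dc9) (nat_lit 2563))
)))) (.node (nat_lit 0x1030189110181) (.node (nat_lit 0x1030189090d89) (.node (nat_lit 0x1030189012181) (.node (nat_lit 0x10301890101c1) (.leaf (nat_lit 0x1030189010181) (nat_lit 1538))
 (.leaf (nat_lit 0x10301890101c1) (nat_lit 2563))
) (.node (nat_lit 0x10301890121c1) (.leaf (nat_lit 0x1030189012181) (nat_lit 2563))
 (.leaf (nat_lit 0x10301890121c1) (nat_lit 2562))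
)) (.node (nat_lit 0x1030189092d89) (.node (nat_lit 0x1030189090dc9) (.leaf (nat_lit 0x1030189090d89) (nat_lit 1794))
 (.leaf (nat_lit 0x1030189090dc9) (nat_lit 2819))
) (.node (nat_lit 0x1030189092dc9) (.leaf (nat_lit 0x1030189092d89) (nat_lit 2307))
 (.leaf (nat_lit 0x1030189092dc9) (nat_lit 2306))
))) (.node (nat_lit 0x1030189190d89) (.node (nat_lit 0x1030189112181) (.node (nat_lit 0x10301891101c1) (.leaf (nat_lit 0x1030189110181) (nat_lit 2563))
 (.leaf (nat_lit 0x10301891101c1) (nat_lit 2050))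
) (.node (nat_lit 0x10301891121c1) (.leaf (nat_lit 0x1030189112181) (nat_lit 2562))
 (.leaf (nat_lit 0x10301891121c1) (nat_lit 2563))
)) (.node (nat_lit 0x1030189192d89) (.node (nat_lit 0x1030189190dc9) (.leaf (nat_lit 0x1030189190d89) (nat_lit 2307))
 (.leaf (nat_lit 0x1030189190dc9) (nat_lit 1794))
) (.node (nat_lit 0x1030189192dc9) (.leaf (nat_lit 0x1030189192d89) (nat_lit 2306))
 (.leaf (nat_lit 0x1030189192dc9) (nat_lit 2819))
)))))) (.node (nat_lit 0x1030581010181) (.node (nat_lit 0x1030509010101) (.node (nat_lit 0x1030501110101) (.node (nat_lit 0x1030501090909) (.node (nat_lit 0x1030501012101) (.node (nat_lit 0x1030501010141) (.leaf (nat_lit 0x1030501010101) (nat_lit 1539))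
 (.leaf (nat_lit 0x1030501010141) (nat_lit 2051))
) (.node (nat_lit 0x1030501012141) (.leaf (nat_lit 0x1030501012101) (nat_lit 3075))
 (.leaf (nat_lit 0x1030501012141) (nat_lit 2562))
)) (.node (nat_lit 0x1030501092909) (.node (nat_lit 0x1030501090949) (.leaf (nat_lit 0x1030501090909) (nat_lit 1795))
 (.leaf (nat_lit 0x1030501090949) (nat_lit 1795))
) (.node (nat_lit 0x1030501092949) (.leaf (nat_lit 0x1030501092909) (nat_lit 2819))
 (.leaf (nat_lit 0x1030501092949) (nat_lit 2306))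
))) (.node (nat_lit 0x1030501190909) (.node (nat_lit 0x1030501112101) (.node (nat_lit 0x1030501110141) (.leaf (nat_lit 0x1030501110101) (nat_lit 3073))
 (.leaf (nat_lit 0x1030501110141) (nat_lit 2562))
) (.node (nat_lit 0x1030501112141) (.leaf (nat_lit 0x1030501112101) (nat_lit 2051))
 (.leaf (nat_lit 0x1030501112141) (nat_lit 2051))
)) (.node (nat_lit 0x1030501192909) (.node (nat_lit 0x1030501190949) (.leaf (nat_lit 0x1030501190909) (nat_lit 2817))
 (.leaf (nat_lit 0x1030501190949) (nat_lit 2306))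
) (.node (nat_lit 0x1030501192949) (.leaf (nat_lit 0x1030501192909) (nat_lit 1795))
 (.leaf (nat_lit 0x1030501192949) (nat_lit 1795))
)))) (.node (nat_lit 0x1030509110101) (.node (nat_lit 0x1030509090909) (.node (nat_lit 0x1030509012101) (.node (nat_lit 0x1030509010141) (.leaf (nat_lit 0x1030509010101) (nat_lit 1283))
 (.leaf (nat_lit 0x1030509010141) (nat_lit 2307))
) (.node (nat_lit 0x1030509012141) (.leaf (nat_lit 0x1030509012101) (nat_lit 2818))
 (.leaf (nat_lit 0x1030509012141) (nat_lit 2819))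
)) (.node (nat_lit 0x1030509092909) (.node (nat_lit 0x1030509090949) (.leaf (nat_lit 0x1030509090909) (nat_lit 1539))
 (.leaf (nat_lit 0x1030509090949) (nat_lit 2051))
) (.node (nat_lit 0x1030509092949) (.leaf (nat_lit 0x1030509092909) (nat_lit 2562))
 (.leaf (nat_lit 0x1030509092949) (nat_lit 2563))
))) (.node (nat_lit 0x1030509190909) (.node (nat_lit 0x1030509112101) (.node (nat_lit 0x1030509110141) (.leaf (nat_lit 0x1030509110101) (nat_lit 2818))
 (.leaf (nat_lit 0x1030509110141) (nat_lit 2817))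
) (.node (nat_lit 0x1030509112141) (.leaf (nat_lit 0x1030509112101) (nat_lit 2307))
 (.leaf (nat_lit 0x1030509112141) (nat_lit 1795))
)) (.node (nat_lit 0x1030509192909) (.node (nat_lit 0x1030509190949) (.leaf (nat_lit 0x1030509190909) (nat_lit 2562))
 (.leaf (nat_lit 0x1030509190949) (nat_lit 2561))
) (.node (nat_lit 0x1030509192949) (.leaf (nat_lit 0x1030509192909) (nat_lit 2051))
 (.leaf (nat_lit 0x1030509192949) (nat_lit 1539))
))))) (.node (nat_lit 0x1030589010181) (.node (nat_lit 0x1030581110181) (.node (nat_lit 0x1030581090d89) (.node (nat_lit 0x1030581012181) (.node (nat_lit 0x10305810101c1) (.leaf (nat_lit 0x1030581010181) (nat_lit 1794))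
 (.leaf (nat_lit 0x10305810101c1) (nat_lit 2307))
) (.node (nat_lit 0x10305810121c1) (.leaf (nat_lit 0x1030581012181) (nat_lit 2819))
 (.leaf (nat_lit 0x10305810121c1) (nat_lit 2306))
)) (.node (nat_lit 0x1030581092d89) (.node (nat_lit 0x1030581090dc9) (.leaf (nat_lit 0x1030581090d89) (nat_lit 2050))
 (.leaf (nat_lit 0x1030581090dc9) (nat_lit 2051))
) (.node (nat_lit 0x1030581092dc9) (.leaf (nat_lit 0x1030581092d89) (nat_lit 3075))
 (.leaf (nat_lit 0x1030581092dc9) (nat_lit 2050))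
))) (.node (nat_lit 0x1030581190d89) (.node (nat_lit 0x1030581112181) (.node (nat_lit 0x10305811101c1) (.leaf (nat_lit 0x1030581110181) (nat_lit 2819))
 (.leaf (nat_lit 0x10305811101c1) (nat_lit 2306))
) (.node (nat_lit 0x10305811121c1) (.leaf (nat_lit 0x1030581112181) (nat_lit 2306))
 (.leaf (nat_lit 0x10305811121c1) (nat_lit 2307))
)) (.node (nat_lit 0x1030581192d89) (.node (nat_lit 0x1030581190dc9) (.leaf (nat_lit 0x1030581190d89) (nat_lit 3075))
 (.leaf (nat_lit 0x1030581190dc9) (nat_lit 2050))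
) (.node (nat_lit 0x1030581192dc9) (.leaf (nat_lit 0x1030581192d89) (nat_lit 2050))
 (.leaf (nat_lit 0x1030581192dc9) (nat_lit 2051))
)))) (.node (nat_lit 0x1030589110181) (.node (nat_lit 0x1030589090d89) (.node (nat_lit 0x1030589012181) (.node (nat_lit 0x10305890101c1) (.leaf (nat_lit 0x1030589010181) (nat_lit 1539))
 (.leaf (nat_lit 0x10305890101c1) (nat_lit 2563))
) (.node (nat_lit 0x10305890121c1) (.leaf (nat_lit 0x1030589012181) (nat_lit 2560))
 (.leaf (nat_lit 0x10305890121c1) (nat_lit 2563))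
)) (.node (nat_lit 0x1030589092d89) (.node (nat_lit 0x1030589090dc9) (.leaf (nat_lit 0x1030589090d89) (nat_lit 1795))
 (.leaf (nat_lit 0x1030589090dc9) (nat_lit 2307))
) (.node (nat_lit 0x1030589092dc9) (.leaf (nat_lit 0x1030589092d89) (nat_lit 2816))
 (.leaf (nat_lit 0x1030589092dc9) (nat_lit 2307))
))) (.node (nat_lit 0x1030589190d89) (.node (nat_lit 0x1030589112181) (.node (nat_lit 0x10305891101c1) (.leaf (nat_lit 0x1030589110181) (nat_lit 2563))
 (.leaf (nat_lit 0x10305891101c1) (nat_lit 2561))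
) (.node (nat_lit 0x10305891121c1) (.leaf (nat_lit 0x1030589112181) (nat_lit 2561))
 (.leaf (nat_lit 0x10305891121c1) (nat_lit 2051))
)) (.node (nat_lit 0x1030589192d89) (.node (nat_lit 0x1030589190dc9) (.leaf (nat_lit 0x1030589190d89) (nat_lit 2819))
 (.leaf (nat_lit 0x1030589190dc9) (nat_lit 2305))
) (.node (nat_lit 0x1030589192dc9) (.leaf (nat_lit 0x1030589192d89) (nat_lit 2305))
 (.leaf (nat_lit 0x1030589192dc9) (nat_lit 1795))
))))))) (.node (nat_lit 0x1034501014101) (.node (nat_lit 0x1034181014181) (.node (nat_lit 0x1034109014101) (.node (nat_lit 0x1034101114101) (.node (nat_lit 0x10341010b4909) (.node (nat_lit 0x1034101016101) (.node (nat_lit 0x1034101014141) (.leaf (nat_lit 0x1034101014101) (nat_lit 1539))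
 (.leaf (nat_lit 0x1034101014141) (nat_lit 2051))
) (.node (nat_lit 0x1034101016141) (.leaf (nat_lit 0x1034101016101) (nat_lit 2563))
 (.leaf (nat_lit 0x1034101016141) (nat_lit 2561))
)) (.node (nat_lit 0x10341010b6909) (.node (nat_lit 0x10341010b4949) (.leaf (nat_lit 0x10341010b4909) (nat_lit 1795))
 (.leaf (nat_lit 0x10341010b4949) (nat_lit 2307))
) (.node (nat_lit 0x10341010b6949) (.leaf (nat_lit 0x10341010b6909) (nat_lit 2307))
 (.leaf (nat_lit 0x10341010b6949) (nat_lit 2817))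
))) (.node (nat_lit 0x10341011b4909) (.node (nat_lit 0x1034101116101) (.node (nat_lit 0x1034101114141) (.leaf (nat_lit 0x1034101114101) (nat_lit 2051))
 (.leaf (nat_lit 0x1034101114141) (nat_lit 2051))
) (.node (nat_lit 0x1034101116141) (.leaf (nat_lit 0x1034101116101) (nat_lit 2561))
 (.leaf (nat_lit 0x1034101116141) (nat_lit 2562))
)) (.node (nat_lit 0x10341011b6909) (.node (nat_lit 0x10341011b4949) (.leaf (nat_lit 0x10341011b4909) (nat_lit 1795))
 (.leaf (nat_lit 0x10341011b4949) (nat_lit 1795))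
) (.node (nat_lit 0x10341011b6949) (.leaf (nat_lit 0x10341011b6909) (nat_lit 2305))
 (.leaf (nat_lit 0x10341011b6949) (nat_lit 2306))
)))) (.node (nat_lit 0x1034109114101) (.node (nat_lit 0x10341090b4909) (.node (nat_lit 0x1034109016101) (.node (nat_lit 0x1034109014141) (.leaf (nat_lit 0x1034109014101) (nat_lit 1283))
 (.leaf (nat_lit 0x1034109014141) (nat_lit 2307))
) (.node (nat_lit 0x1034109016141) (.leaf (nat_lit 0x1034109016101) (nat_lit 2307))
 (.leaf (nat_lit 0x1034109016141) (nat_lit 2306))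
)) (.node (nat_lit 0x10341090b6909) (.node (nat_lit 0x10341090b4949) (.leaf (nat_lit 0x10341090b4909) (nat_lit 1539))
 (.leaf (nat_lit 0x10341090b4949) (nat_lit 2563))
) (.node (nat_lit 0x10341090b6949) (.leaf (nat_lit 0x10341090b6909) (nat_lit 2051))
 (.leaf (nat_lit 0x10341090b6949) (nat_lit 2562))
))) (.node (nat_lit 0x10341091b4909) (.node (nat_lit 0x1034109116101) (.node (nat_lit 0x1034109114141) (.leaf (nat_lit 0x1034109114101) (nat_lit 2307))
 (.leaf (nat_lit 0x1034109114141) (nat_lit 1795))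
) (.node (nat_lit 0x1034109116141) (.leaf (nat_lit 0x1034109116101) (nat_lit 2306))
 (.leaf (nat_lit 0x1034109116141) (nat_lit 2307))
)) (.node (nat_lit 0x10341091b6909) (.node (nat_lit 0x10341091b4949) (.leaf (nat_lit 0x10341091b4909) (nat_lit 2051))
 (.leaf (nat_lit 0x10341091b4949) (nat_lit 1539))
) (.node (nat_lit 0x10341091b6949) (.leaf (nat_lit 0x10341091b6909) (nat_lit 2050))
 (.leaf (nat_lit 0x10341091b6949) (nat_lit 2563))
))))) (.node (nat_lit 0x1034189014181) (.node (nat_lit 0x1034181114181) (.node (nat_lit 0x10341810b4d89) (.node (nat_lit 0x1034181016181) (.node (nat_lit 0x10341810141c1) (.leaf (nat_lit 0x1034181014181) (nat_lit 1794))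
 (.leaf (nat_lit 0x10341810141c1) (nat_lit 2307))
) (.node (nat_lit 0x10341810161c1) (.leaf (nat_lit 0x1034181016181) (nat_lit 2818))
 (.leaf (nat_lit 0x10341810161c1) (nat_lit 2306))
)) (.node (nat_lit 0x10341810b6d89) (.node (nat_lit 0x10341810b4dc9) (.leaf (nat_lit 0x10341810b4d89) (nat_lit 2050))
 (.leaf (nat_lit 0x10341810b4dc9) (nat_lit 2563))
) (.node (nat_lit 0x10341810b6dc9) (.leaf (nat_lit 0x10341810b6d89) (nat_lit 2562))
 (.leaf (nat_lit 0x10341810b6dc9) (nat_lit 2562))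
))) (.node (nat_lit 0x10341811b4d89) (.node (nat_lit 0x1034181116181) (.node (nat_lit 0x10341811141c1) (.leaf (nat_lit 0x1034181114181) (nat_lit 2306))
 (.leaf (nat_lit 0x10341811141c1) (nat_lit 2307))
) (.node (nat_lit 0x10341811161c1) (.leaf (nat_lit 0x1034181116181) (nat_lit 2818))
 (.leaf (nat_lit 0x10341811161c1) (nat_lit 2306))
)) (.node (nat_lit 0x10341811b6d89) (.node (nat_lit 0x10341811b4dc9) (.leaf (nat_lit 0x10341811b4d89) (nat_lit 2050))
 (.leaf (nat_lit 0x10341811b4dc9) (nat_lit 2051))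
) (.node (nat_lit 0x10341811b6dc9) (.leaf (nat_lit 0x10341811b6d89) (nat_lit 2562))
 (.leaf (nat_lit 0x10341811b6dc9) (nat_lit 2050))
)))) (.node (nat_lit 0x1034189114181) (.node (nat_lit 0x10341890b4d89) (.node (nat_lit 0x1034189016181) (.node (nat_lit 0x10341890141c1) (.leaf (nat_lit 0x1034189014181) (nat_lit 1539))
 (.leaf (nat_lit 0x10341890141c1) (nat_lit 2562))
) (.node (nat_lit 0x10341890161c1) (.leaf (nat_lit 0x1034189016181) (nat_lit 2563))
 (.leaf (nat_lit 0x10341890161c1) (nat_lit 2561))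
)) (.node (nat_lit 0x10341890b6d89) (.node (nat_lit 0x10341890b4dc9) (.leaf (nat_lit 0x10341890b4d89) (nat_lit 1795))
 (.leaf (nat_lit 0x10341890b4dc9) (nat_lit 2818))
) (.node (nat_lit 0x10341890b6dc9) (.leaf (nat_lit 0x10341890b6d89) (nat_lit 2307))
 (.leaf (nat_lit 0x10341890b6dc9) (nat_lit 2817))
))) (.node (nat_lit 0x10341891b4d89) (.node (nat_lit 0x1034189116181) (.node (nat_lit 0x10341891141c1) (.leaf (nat_lit 0x1034189114181) (nat_lit 2561))
 (.leaf (nat_lit 0x10341891141c1) (nat_lit 2051))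
) (.node (nat_lit 0x10341891161c1) (.leaf (nat_lit 0x1034189116181) (nat_lit 2562))
 (.leaf (nat_lit 0x10341891161c1) (nat_lit 2563))
)) (.node (nat_lit 0x10341891b6d89) (.node (nat_lit 0x10341891b4dc9) (.leaf (nat_lit 0x10341891b4d89) (nat_lit 2305))
 (.leaf (nat_lit 0x10341891b4dc9) (nat_lit 1795))
) (.node (nat_lit 0x10341891b6dc9) (.leaf (nat_lit 0x10341891b6d89) (nat_lit 2306))
 (.leaf (nat_lit 0x10341891b6dc9) (nat_lit 2307))
)))))) (.node (nat_lit 0x1034581014181) (.node (nat_lit 0x1034509014101) (.node (nat_lit 0x1034501114101) (.node (nat_lit 0x10345010b4909) (.node (nat_lit 0x1034501016101) (.node (nat_lit 0x1034501014141) (.leaf (nat_lit 0x1034501014101) (nat_lit 1538))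
 (.leaf (nat_lit 0x1034501014141) (nat_lit 2051))
) (.node (nat_lit 0x1034501016141) (.leaf (nat_lit 0x1034501016101) (nat_lit 2563))
 (.leaf (nat_lit 0x1034501016141) (nat_lit 2050))
)) (.node (nat_lit 0x10345010b6909) (.node (nat_lit 0x10345010b4949) (.leaf (nat_lit 0x10345010b4909) (nat_lit 1794))
 (.leaf (nat_lit 0x10345010b4949) (nat_lit 2307))
) (.node (nat_lit 0x10345010b6949) (.leaf (nat_lit 0x10345010b6909) (nat_lit 2819))
 (.leaf (nat_lit 0x10345010b6949) (nat_lit 2306))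
))) (.node (nat_lit 0x10345011b4909) (.node (nat_lit 0x1034501116101) (.node (nat_lit 0x1034501114141) (.leaf (nat_lit 0x1034501114101) (nat_lit 3075))
 (.leaf (nat_lit 0x1034501114141) (nat_lit 2050))
) (.node (nat_lit 0x1034501116141) (.leaf (nat_lit 0x1034501116101) (nat_lit 2050))
 (.leaf (nat_lit 0x1034501116141) (nat_lit 2051))
)) (.node (nat_lit 0x10345011b6909) (.node (nat_lit 0x10345011b4949) (.leaf (nat_lit 0x10345011b4909) (nat_lit 2819))
 (.leaf (nat_lit 0x10345011b4949) (nat_lit 1794))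
) (.node (nat_lit 0x10345011b6949) (.leaf (nat_lit 0x10345011b6909) (nat_lit 1794))
 (.leaf (nat_lit 0x10345011b6949) (nat_lit 1795))
)))) (.node (nat_lit 0x1034509114101) (.node (nat_lit 0x10345090b4909) (.node (nat_lit 0x1034509016101) (.node (nat_lit 0x1034509014141) (.leaf (nat_lit 0x1034509014101) (nat_lit 1283))
 (.leaf (nat_lit 0x1034509014141) (nat_lit 2304))
) (.node (nat_lit 0x1034509016141) (.leaf (nat_lit 0x1034509016101) (nat_lit 2307))
 (.leaf (nat_lit 0x1034509016141) (nat_lit 2305))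
)) (.node (nat_lit 0x10345090b6909) (.node (nat_lit 0x10345090b4949) (.leaf (nat_lit 0x10345090b4909) (nat_lit 1539))
 (.leaf (nat_lit 0x10345090b4949) (nat_lit 2560))
) (.node (nat_lit 0x10345090b6949) (.leaf (nat_lit 0x10345090b6909) (nat_lit 2563))
 (.leaf (nat_lit 0x10345090b6949) (nat_lit 2561))
))) (.node (nat_lit 0x10345091b4909) (.node (nat_lit 0x1034509116101) (.node (nat_lit 0x1034509114141) (.leaf (nat_lit 0x1034509114101) (nat_lit 2816))
 (.leaf (nat_lit 0x1034509114141) (nat_lit 2307))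
) (.node (nat_lit 0x1034509116141) (.leaf (nat_lit 0x1034509116101) (nat_lit 2305))
 (.leaf (nat_lit 0x1034509116141) (nat_lit 1795))
)) (.node (nat_lit 0x10345091b6909) (.node (nat_lit 0x10345091b4949) (.leaf (nat_lit 0x10345091b4909) (nat_lit 2560))
 (.leaf (nat_lit 0x10345091b4949) (nat_lit 2051))
) (.node (nat_lit 0x10345091b6949) (.leaf (nat_lit 0x10345091b6909) (nat_lit 2049))
 (.leaf (nat_lit 0x10345091b6949) (nat_lit 1539))
))))) (.node (nat_lit 0x1034589014181) (.node (nat_lit 0x1034581114181) (.node (nat_lit 0x10345810b4d89) (.node (nat_lit 0x1034581016181) (.node (nat_lit 0x10345810141c1) (.leaf (nat_lit 0x1034581014181) (nat_lit 1283))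
 (.leaf (nat_lit 0x10345810141c1) (nat_lit 1795))
) (.node (nat_lit 0x10345810161c1) (.leaf (nat_lit 0x1034581016181) (nat_lit 2819))
 (.leaf (nat_lit 0x10345810161c1) (nat_lit 2306))
)) (.node (nat_lit 0x10345810b6d89) (.node (nat_lit 0x10345810b4dc9) (.leaf (nat_lit 0x10345810b4d89) (nat_lit 1539))
 (.leaf (nat_lit 0x10345810b4dc9) (nat_lit 2051))
) (.node (nat_lit 0x10345810b6dc9) (.leaf (nat_lit 0x10345810b6d89) (nat_lit 2563))
 (.leaf (nat_lit 0x10345810b6dc9) (nat_lit 2562))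
))) (.node (nat_lit 0x10345811b4d89) (.node (nat_lit 0x1034581116181) (.node (nat_lit 0x10345811141c1) (.leaf (nat_lit 0x1034581114181) (nat_lit 2817))
 (.leaf (nat_lit 0x10345811141c1) (nat_lit 2306))
) (.node (nat_lit 0x10345811161c1) (.leaf (nat_lit 0x1034581116181) (nat_lit 1795))
 (.leaf (nat_lit 0x10345811161c1) (nat_lit 1795))
)) (.node (nat_lit 0x10345811b6d89) (.node (nat_lit 0x10345811b4dc9) (.leaf (nat_lit 0x10345811b4d89) (nat_lit 2561))
 (.leaf (nat_lit 0x10345811b4dc9) (nat_lit 2050))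
) (.node (nat_lit 0x10345811b6dc9) (.leaf (nat_lit 0x10345811b6d89) (nat_lit 1539))
 (.leaf (nat_lit 0x10345811b6dc9) (nat_lit 1539))
)))) (.node (nat_lit 0x1034589114181) (.node (nat_lit 0x10345890b4d89) (.node (nat_lit 0x1034589016181) (.node (nat_lit 0x10345890141c1) (.leaf (nat_lit 0x1034589014181) (nat_lit 1027))
 (.leaf (nat_lit 0x10345890141c1) (nat_lit 2051))
) (.node (nat_lit 0x10345890161c1) (.leaf (nat_lit 0x1034589016181) (nat_lit 2563))
 (.leaf (nat_lit 0x10345890161c1) (nat_lit 2562))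
)) (.node (nat_lit 0x10345890b6d89) (.node (nat_lit 0x10345890b4dc9) (.leaf (nat_lit 0x10345890b4d89) (nat_lit 1283))
 (.leaf (nat_lit 0x10345890b4dc9) (nat_lit 2307))
) (.node (nat_lit 0x10345890b6dc9) (.leaf (nat_lit 0x10345890b6d89) (nat_lit 2307))
 (.leaf (nat_lit 0x10345890b6dc9) (nat_lit 2818))
))) (.node (nat_lit 0x10345891b4d89) (.node (nat_lit 0x1034589116181) (.node (nat_lit 0x10345891141c1) (.leaf (nat_lit 0x1034589114181) (nat_lit 2562))
 (.leaf (nat_lit 0x10345891141c1) (nat_lit 2563))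
) (.node (nat_lit 0x10345891161c1) (.leaf (nat_lit 0x1034589116181) (nat_lit 2051))
 (.leaf (nat_lit 0x10345891161c1) (nat_lit 1539))
)) (.node (nat_lit 0x10345891b6d89) (.node (nat_lit 0x10345891b4dc9) (.leaf (nat_lit 0x10345891b4d89) (nat_lit 2306))
 (.leaf (nat_lit 0x10345891b4dc9) (nat_lit 2307))
) (.node (nat_lit 0x10345891b6dc9) (.leaf (nat_lit 0x10345891b6d89) (nat_lit 1795))
 (.leaf (nat_lit 0x10345891b6dc9) (nat_lit 1283))
)))))))) (.node (nat_lit 0x103c10101c101) (.node (nat_lit 0x1038501018101) (.node (nat_lit 0x1038181018181) (.node (nat_lit 0x1038109018101) (.node (nat_lit 0x1038101118101) (.node (nat_lit 0x10381010d8909) (.node (nat_lit 0x103810101a101) (.node (nat_lit 0x1038101018141) (.leaf (nat_lit 0x1038101018101) (nat_lit 1794))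
 (.leaf (nat_lit 0x1038101018141) (nat_lit 2818))
) (.node (nat_lit 0x103810101a141) (.leaf (nat_lit 0x103810101a101) (nat_lit 2818))
 (.leaf (nat_lit 0x103810101a141) (nat_lit 2306))
)) (.node (nat_lit 0x10381010da909) (.node (nat_lit 0x10381010d8949) (.leaf (nat_lit 0x10381010d8909) (nat_lit 2050))
 (.leaf (nat_lit 0x10381010d8949) (nat_lit 2562))
) (.node (nat_lit 0x10381010da949) (.leaf (nat_lit 0x10381010da909) (nat_lit 3074))
 (.leaf (nat_lit 0x10381010da949) (nat_lit 2562))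
))) (.node (nat_lit 0x10381011d8909) (.node (nat_lit 0x103810111a101) (.node (nat_lit 0x1038101118141) (.leaf (nat_lit 0x1038101118101) (nat_lit 2306))
 (.leaf (nat_lit 0x1038101118141) (nat_lit 2817))
) (.node (nat_lit 0x103810111a141) (.leaf (nat_lit 0x103810111a101) (nat_lit 2818))
 (.leaf (nat_lit 0x103810111a141) (nat_lit 2306))
)) (.node (nat_lit 0x10381011da909) (.node (nat_lit 0x10381011d8949) (.leaf (nat_lit 0x10381011d8909) (nat_lit 2050))
 (.leaf (nat_lit 0x10381011d8949) (nat_lit 2561))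
) (.node (nat_lit 0x10381011da949) (.leaf (nat_lit 0x10381011da909) (nat_lit 2562))
 (.leaf (nat_lit 0x10381011da949) (nat_lit 2050))
)))) (.node (nat_lit 0x1038109118101) (.node (nat_lit 0x10381090d8909) (.node (nat_lit 0x103810901a101) (.node (nat_lit 0x1038109018141) (.leaf (nat_lit 0x1038109018101) (nat_lit 2050))
 (.leaf (nat_lit 0x1038109018141) (nat_lit 2562))
) (.node (nat_lit 0x103810901a141) (.leaf (nat_lit 0x103810901a101) (nat_lit 2562))
 (.leaf (nat_lit 0x103810901a141) (nat_lit 2562))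
)) (.node (nat_lit 0x10381090da909) (.node (nat_lit 0x10381090d8949) (.leaf (nat_lit 0x10381090d8909) (nat_lit 2306))
 (.leaf (nat_lit 0x10381090d8949) (nat_lit 2306))
) (.node (nat_lit 0x10381090da949) (.leaf (nat_lit 0x10381090da909) (nat_lit 2818))
 (.leaf (nat_lit 0x10381090da949) (nat_lit 2818))
))) (.node (nat_lit 0x10381091d8909) (.node (nat_lit 0x103810911a101) (.node (nat_lit 0x1038109118141) (.leaf (nat_lit 0x1038109118101) (nat_lit 2561))
 (.leaf (nat_lit 0x1038109118141) (nat_lit 2562))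
) (.node (nat_lit 0x103810911a141) (.leaf (nat_lit 0x103810911a101) (nat_lit 2562))
 (.leaf (nat_lit 0x103810911a141) (nat_lit 2562))
)) (.node (nat_lit 0x10381091da909) (.node (nat_lit 0x10381091d8949) (.leaf (nat_lit 0x10381091d8909) (nat_lit 2305))
 (.leaf (nat_lit 0x10381091d8949) (nat_lit 2306))
) (.node (nat_lit 0x10381091da949) (.leaf (nat_lit 0x10381091da909) (nat_lit 2306))
 (.leaf (nat_lit 0x10381091da949) (nat_lit 2306))
))))) (.node (nat_lit 0x1038189018181) (.node (nat_lit 0x1038181118181) (.node (nat_lit 0x10381810d8d89) (.node (nat_lit 0x103818101a181) (.node (nat_lit 0x10381810181c1) (.leaf (nat_lit 0x1038181018181) (nat_lit 1537))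
 (.leaf (nat_lit 0x10381810181c1) (nat_lit 2048))
) (.node (nat_lit 0x103818101a1c1) (.leaf (nat_lit 0x103818101a181) (nat_lit 2560))
 (.leaf (nat_lit 0x103818101a1c1) (nat_lit 2561))
)) (.node (nat_lit 0x10381810dad89) (.node (nat_lit 0x10381810d8dc9) (.leaf (nat_lit 0x10381810d8d89) (nat_lit 1793))
 (.leaf (nat_lit 0x10381810d8dc9) (nat_lit 2304))
) (.node (nat_lit 0x10381810dadc9) (.leaf (nat_lit 0x10381810dad89) (nat_lit 2816))
 (.leaf (nat_lit 0x10381810dadc9) (nat_lit 2305))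
))) (.node (nat_lit 0x10381811d8d89) (.node (nat_lit 0x103818111a181) (.node (nat_lit 0x10381811181c1) (.leaf (nat_lit 0x1038181118181) (nat_lit 2048))
 (.leaf (nat_lit 0x10381811181c1) (nat_lit 2049))
) (.node (nat_lit 0x103818111a1c1) (.leaf (nat_lit 0x103818111a181) (nat_lit 2561))
 (.leaf (nat_lit 0x103818111a1c1) (nat_lit 2560))
)) (.node (nat_lit 0x10381811dad89) (.node (nat_lit 0x10381811d8dc9) (.leaf (nat_lit 0x10381811d8d89) (nat_lit 1792))
 (.leaf (nat_lit 0x10381811d8dc9) (nat_lit 1793))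
) (.node (nat_lit 0x10381811dadc9) (.leaf (nat_lit 0x10381811dad89) (nat_lit 2305))
 (.leaf (nat_lit 0x10381811dadc9) (nat_lit 2816))
)))) (.node (nat_lit 0x1038189118181) (.node (nat_lit 0x10381890d8d89) (.node (nat_lit 0x103818901a181) (.node (nat_lit 0x10381890181c1) (.leaf (nat_lit 0x1038189018181) (nat_lit 1282))
 (.leaf (nat_lit 0x10381890181c1) (nat_lit 2305))
) (.node (nat_lit 0x103818901a1c1) (.leaf (nat_lit 0x103818901a181) (nat_lit 2819))
 (.leaf (nat_lit 0x103818901a1c1) (nat_lit 2306))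
)) (.node (nat_lit 0x10381890dad89) (.node (nat_lit 0x10381890d8dc9) (.leaf (nat_lit 0x10381890d8d89) (nat_lit 1538))
 (.leaf (nat_lit 0x10381890d8dc9) (nat_lit 2561))
) (.node (nat_lit 0x10381890dadc9) (.leaf (nat_lit 0x10381890dad89) (nat_lit 2563))
 (.leaf (nat_lit 0x10381890dadc9) (nat_lit 2050))
))) (.node (nat_lit 0x10381891d8d89) (.node (nat_lit 0x103818911a181) (.node (nat_lit 0x10381891181c1) (.leaf (nat_lit 0x1038189118181) (nat_lit 2305))
 (.leaf (nat_lit 0x10381891181c1) (nat_lit 1794))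
) (.node (nat_lit 0x103818911a1c1) (.leaf (nat_lit 0x103818911a181) (nat_lit 2306))
 (.leaf (nat_lit 0x103818911a1c1) (nat_lit 2817))
)) (.node (nat_lit 0x10381891dad89) (.node (nat_lit 0x10381891d8dc9) (.leaf (nat_lit 0x10381891d8d89) (nat_lit 2049))
 (.leaf (nat_lit 0x10381891d8dc9) (nat_lit 1538))
) (.node (nat_lit 0x10381891dadc9) (.leaf (nat_lit 0x10381891dad89) (nat_lit 2050))
 (.leaf (nat_lit 0x10381891dadc9) (nat_lit 3073))
)))))) (.node (nat_lit 0x1038581018181) (.node (nat_lit 0x1038509018101) (.node (nat_lit 0x1038501118101) (.node (nat_lit 0x10385010d8909) (.node (nat_lit 0x103850101a101) (.node (nat_lit 0x1038501018141) (.leaf (nat_lit 0x1038501018101) (nat_lit 1283))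
 (.leaf (nat_lit 0x1038501018141) (nat_lit 1795))
) (.node (nat_lit 0x103850101a141) (.leaf (nat_lit 0x103850101a101) (nat_lit 2818))
 (.leaf (nat_lit 0x103850101a141) (nat_lit 2818))
)) (.node (nat_lit 0x10385010da909) (.node (nat_lit 0x10385010d8949) (.leaf (nat_lit 0x10385010d8909) (nat_lit 1539))
 (.leaf (nat_lit 0x10385010d8949) (nat_lit 1539))
) (.node (nat_lit 0x10385010da949) (.leaf (nat_lit 0x10385010da909) (nat_lit 3074))
 (.leaf (nat_lit 0x10385010da949) (nat_lit 2562))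
))) (.node (nat_lit 0x10385011d8909) (.node (nat_lit 0x103850111a101) (.node (nat_lit 0x1038501118141) (.leaf (nat_lit 0x1038501118101) (nat_lit 2817))
 (.leaf (nat_lit 0x1038501118141) (nat_lit 2818))
) (.node (nat_lit 0x103850111a141) (.leaf (nat_lit 0x103850111a101) (nat_lit 1795))
 (.leaf (nat_lit 0x103850111a141) (nat_lit 1795))
)) (.node (nat_lit 0x10385011da909) (.node (nat_lit 0x10385011d8949) (.leaf (nat_lit 0x10385011d8909) (nat_lit 2561))
 (.leaf (nat_lit 0x10385011d8949) (nat_lit 2562))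
) (.node (nat_lit 0x10385011da949) (.leaf (nat_lit 0x10385011da909) (nat_lit 1539))
 (.leaf (nat_lit 0x10385011da949) (nat_lit 1539))
)))) (.node (nat_lit 0x1038509118101) (.node (nat_lit 0x10385090d8909) (.node (nat_lit 0x103850901a101) (.node (nat_lit 0x1038509018141) (.leaf (nat_lit 0x1038509018101) (nat_lit 1027))
 (.leaf (nat_lit 0x1038509018141) (nat_lit 2051))
) (.node (nat_lit 0x103850901a141) (.leaf (nat_lit 0x103850901a101) (nat_lit 3074))
 (.leaf (nat_lit 0x103850901a141) (nat_lit 2562))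
)) (.node (nat_lit 0x10385090da909) (.node (nat_lit 0x10385090d8949) (.leaf (nat_lit 0x10385090d8909) (nat_lit 1283))
 (.leaf (nat_lit 0x10385090d8949) (nat_lit 1795))
) (.node (nat_lit 0x10385090da949) (.leaf (nat_lit 0x10385090da909) (nat_lit 2818))
 (.leaf (nat_lit 0x10385090da949) (nat_lit 2818))
))) (.node (nat_lit 0x10385091d8909) (.node (nat_lit 0x103850911a101) (.node (nat_lit 0x1038509118141) (.leaf (nat_lit 0x1038509118101) (nat_lit 2562))
 (.leaf (nat_lit 0x1038509118141) (nat_lit 3073))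
) (.node (nat_lit 0x103850911a141) (.leaf (nat_lit 0x103850911a101) (nat_lit 2051))
 (.leaf (nat_lit 0x103850911a141) (nat_lit 1539))
)) (.node (nat_lit 0x10385091da909) (.node (nat_lit 0x10385091d8949) (.leaf (nat_lit 0x10385091d8909) (nat_lit 2306))
 (.leaf (nat_lit 0x10385091d8949) (nat_lit 2817))
) (.node (nat_lit 0x10385091da949) (.leaf (nat_lit 0x10385091da909) (nat_lit 1795))
 (.leaf (nat_lit 0x10385091da949) (nat_lit 1283))
))))) (.node (nat_lit 0x1038589018181) (.node (nat_lit 0x1038581118181) (.node (nat_lit 0x10385810d8d89) (.node (nat_lit 0x103858101a181) (.node (nat_lit 0x10385810181c1) (.leaf (nat_lit 0x1038581018181) (nat_lit 1538))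
 (.leaf (nat_lit 0x10385810181c1) (nat_lit 2563))
) (.node (nat_lit 0x103858101a1c1) (.leaf (nat_lit 0x103858101a181) (nat_lit 2561))
 (.leaf (nat_lit 0x103858101a1c1) (nat_lit 2050))
)) (.node (nat_lit 0x10385810dad89) (.node (nat_lit 0x10385810d8dc9) (.leaf (nat_lit 0x10385810d8d89) (nat_lit 1794))
 (.leaf (nat_lit 0x10385810d8dc9) (nat_lit 2307))
) (.node (nat_lit 0x10385810dadc9) (.leaf (nat_lit 0x10385810dad89) (nat_lit 2817))
 (.leaf (nat_lit 0x10385810dadc9) (nat_lit 1794))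
))) (.node (nat_lit 0x10385811d8d89) (.node (nat_lit 0x103858111a181) (.node (nat_lit 0x10385811181c1) (.leaf (nat_lit 0x1038581118181) (nat_lit 2561))
 (.leaf (nat_lit 0x10385811181c1) (nat_lit 2050))
) (.node (nat_lit 0x103858111a1c1) (.leaf (nat_lit 0x103858111a181) (nat_lit 2050))
 (.leaf (nat_lit 0x103858111a1c1) (nat_lit 2561))
)) (.node (nat_lit 0x10385811dad89) (.node (nat_lit 0x10385811d8dc9) (.leaf (nat_lit 0x10385811d8d89) (nat_lit 2817))
 (.leaf (nat_lit 0x10385811d8dc9) (nat_lit 1794))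
) (.node (nat_lit 0x10385811dadc9) (.leaf (nat_lit 0x10385811dad89) (nat_lit 1794))
 (.leaf (nat_lit 0x10385811dadc9) (nat_lit 2305))
)))) (.node (nat_lit 0x1038589118181) (.node (nat_lit 0x10385890d8d89) (.node (nat_lit 0x103858901a181) (.node (nat_lit 0x10385890181c1) (.leaf (nat_lit 0x1038589018181) (nat_lit 1793))
 (.leaf (nat_lit 0x10385890181c1) (nat_lit 2304))
) (.node (nat_lit 0x103858901a1c1) (.leaf (nat_lit 0x103858901a181) (nat_lit 2304))
 (.leaf (nat_lit 0x103858901a1c1) (nat_lit 2305))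
)) (.node (nat_lit 0x10385890dad89) (.node (nat_lit 0x10385890d8dc9) (.leaf (nat_lit 0x10385890d8d89) (nat_lit 2049))
 (.leaf (nat_lit 0x10385890d8dc9) (nat_lit 2560))
) (.node (nat_lit 0x10385890dadc9) (.leaf (nat_lit 0x10385890dad89) (nat_lit 2560))
 (.leaf (nat_lit 0x10385890dadc9) (nat_lit 2049))
))) (.node (nat_lit 0x10385891d8d89) (.node (nat_lit 0x103858911a181) (.node (nat_lit 0x10385891181c1) (.leaf (nat_lit 0x1038589118181) (nat_lit 2304))
 (.leaf (nat_lit 0x10385891181c1) (nat_lit 2305))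
) (.node (nat_lit 0x103858911a1c1) (.leaf (nat_lit 0x103858911a181) (nat_lit 2305))
 (.leaf (nat_lit 0x103858911a1c1) (nat_lit 2304))
)) (.node (nat_lit 0x10385891dad89) (.node (nat_lit 0x10385891d8dc9) (.leaf (nat_lit 0x10385891d8d89) (nat_lit 2560))
 (.leaf (nat_lit 0x10385891d8dc9) (nat_lit 2049))
) (.node (nat_lit 0x10385891dadc9) (.leaf (nat_lit 0x10385891dad89) (nat_lit 2049))
 (.leaf (nat_lit 0x10385891dadc9) (nat_lit 2048))
))))))) (.node (nat_lit 0x103c50101c101) (.node (nat_lit 0x103c18101c181) (.node (nat_lit 0x103c10901c101) (.node (nat_lit 0x103c10111c101) (.node (nat_lit 0x103c1010fc909) (.node (nat_lit 0x103c10101e101) (.node (nat_lit 0x103c10101c141) (.leaf (nat_lit 0x103c10101c101) (nat_lit 1281))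
 (.leaf (nat_lit 0x103c10101c141) (nat_lit 1792))
) (.node (nat_lit 0x103c10101e141) (.leaf (nat_lit 0x103c10101e101) (nat_lit 2304))
 (.leaf (nat_lit 0x103c10101e141) (nat_lit 2305))
)) (.node (nat_lit 0x103c1010fe909) (.node (nat_lit 0x103c1010fc949) (.leaf (nat_lit 0x103c1010fc909) (nat_lit 1537))
 (.leaf (nat_lit 0x103c1010fc949) (nat_lit 2048))
) (.node (nat_lit 0x103c1010fe949) (.leaf (nat_lit 0x103c1010fe909) (nat_lit 2560))
 (.leaf (nat_lit 0x103c1010fe949) (nat_lit 2561))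
))) (.node (nat_lit 0x103c1011fc909) (.node (nat_lit 0x103c10111e101) (.node (nat_lit 0x103c10111c141) (.leaf (nat_lit 0x103c10111c101) (nat_lit 1792))
 (.leaf (nat_lit 0x103c10111c141) (nat_lit 1793))
) (.node (nat_lit 0x103c10111e141) (.leaf (nat_lit 0x103c10111e101) (nat_lit 2305))
 (.leaf (nat_lit 0x103c10111e141) (nat_lit 2816))
)) (.node (nat_lit 0x103c1011fe909) (.node (nat_lit 0x103c1011fc949) (.leaf (nat_lit 0x103c1011fc909) (nat_lit 1536))
 (.leaf (nat_lit 0x103c1011fc949) (nat_lit 1537))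
) (.node (nat_lit 0x103c1011fe949) (.leaf (nat_lit 0x103c1011fe909) (nat_lit 2049))
 (.leaf (nat_lit 0x103c1011fe949) (nat_lit 2560))
)))) (.node (nat_lit 0x103c10911c101) (.node (nat_lit 0x103c1090fc909) (.node (nat_lit 0x103c10901e101) (.node (nat_lit 0x103c10901c141) (.leaf (nat_lit 0x103c10901c101) (nat_lit 1026))
 (.leaf (nat_lit 0x103c10901c141) (nat_lit 2049))
) (.node (nat_lit 0x103c10901e141) (.leaf (nat_lit 0x103c10901e101) (nat_lit 2563))
 (.leaf (nat_lit 0x103c10901e141) (nat_lit 2050))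
)) (.node (nat_lit 0x103c1090fe909) (.node (nat_lit 0x103c1090fc949) (.leaf (nat_lit 0x103c1090fc909) (nat_lit 1282))
 (.leaf (nat_lit 0x103c1090fc949) (nat_lit 2305))
) (.node (nat_lit 0x103c1090fe949) (.leaf (nat_lit 0x103c1090fe909) (nat_lit 2307))
 (.leaf (nat_lit 0x103c1090fe949) (nat_lit 2306))
))) (.node (nat_lit 0x103c1091fc909) (.node (nat_lit 0x103c10911e101) (.node (nat_lit 0x103c10911c141) (.leaf (nat_lit 0x103c10911c101) (nat_lit 2049))
 (.leaf (nat_lit 0x103c10911c141) (nat_lit 1538))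
) (.node (nat_lit 0x103c10911e141) (.leaf (nat_lit 0x103c10911e101) (nat_lit 2050))
 (.leaf (nat_lit 0x103c10911e141) (nat_lit 2563))
)) (.node (nat_lit 0x103c1091fe909) (.node (nat_lit 0x103c1091fc949) (.leaf (nat_lit 0x103c1091fc909) (nat_lit 1793))
 (.leaf (nat_lit 0x103c1091fc949) (nat_lit 1282))
) (.node (nat_lit 0x103c1091fe949) (.leaf (nat_lit 0x103c1091fe909) (nat_lit 1794))
 (.leaf (nat_lit 0x103c1091fe949) (nat_lit 2819))
))))) (.node (nat_lit 0x103c18901c181) (.node (nat_lit 0x103c18111c181) (.node (nat_lit 0x103c1810fcd89) (.node (nat_lit 0x103c18101e181) (.node (nat_lit 0x103c18101c1c1) (.leaf (nat_lit 0x103c18101c181) (nat_lit 1538))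
 (.leaf (nat_lit 0x103c18101c1c1) (nat_lit 2562))
) (.node (nat_lit 0x103c18101e1c1) (.leaf (nat_lit 0x103c18101e181) (nat_lit 2561))
 (.leaf (nat_lit 0x103c18101e1c1) (nat_lit 2050))
)) (.node (nat_lit 0x103c1810fed89) (.node (nat_lit 0x103c1810fcdc9) (.leaf (nat_lit 0x103c1810fcd89) (nat_lit 1794))
 (.leaf (nat_lit 0x103c1810fcdc9) (nat_lit 2818))
) (.node (nat_lit 0x103c1810fedc9) (.leaf (nat_lit 0x103c1810fed89) (nat_lit 2817))
 (.leaf (nat_lit 0x103c1810fedc9) (nat_lit 2306))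
))) (.node (nat_lit 0x103c1811fcd89) (.node (nat_lit 0x103c18111e181) (.node (nat_lit 0x103c18111c1c1) (.leaf (nat_lit 0x103c18111c181) (nat_lit 2050))
 (.leaf (nat_lit 0x103c18111c1c1) (nat_lit 2561))
) (.node (nat_lit 0x103c18111e1c1) (.leaf (nat_lit 0x103c18111e181) (nat_lit 2562))
 (.leaf (nat_lit 0x103c18111e1c1) (nat_lit 2050))
)) (.node (nat_lit 0x103c1811fed89) (.node (nat_lit 0x103c1811fcdc9) (.leaf (nat_lit 0x103c1811fcd89) (nat_lit 1794))
 (.leaf (nat_lit 0x103c1811fcdc9) (nat_lit 2305))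
) (.node (nat_lit 0x103c1811fedc9) (.leaf (nat_lit 0x103c1811fed89) (nat_lit 2306))
 (.leaf (nat_lit 0x103c1811fedc9) (nat_lit 1794))
)))) (.node (nat_lit 0x103c18911c181) (.node (nat_lit 0x103c1890fcd89) (.node (nat_lit 0x103c18901e181) (.node (nat_lit 0x103c18901c1c1) (.leaf (nat_lit 0x103c18901c181) (nat_lit 1794))
 (.leaf (nat_lit 0x103c18901c1c1) (nat_lit 2306))
) (.node (nat_lit 0x103c18901e1c1) (.leaf (nat_lit 0x103c18901e181) (nat_lit 2306))
 (.leaf (nat_lit 0x103c18901e1c1) (nat_lit 2305))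
)) (.node (nat_lit 0x103c1890fed89) (.node (nat_lit 0x103c1890fcdc9) (.leaf (nat_lit 0x103c1890fcd89) (nat_lit 2050))
 (.leaf (nat_lit 0x103c1890fcdc9) (nat_lit 2562))
) (.node (nat_lit 0x103c1890fedc9) (.leaf (nat_lit 0x103c1890fed89) (nat_lit 2562))
 (.leaf (nat_lit 0x103c1890fedc9) (nat_lit 2561))
))) (.node (nat_lit 0x103c1891fcd89) (.node (nat_lit 0x103c18911e181) (.node (nat_lit 0x103c18911c1c1) (.leaf (nat_lit 0x103c18911c181) (nat_lit 2305))
 (.leaf (nat_lit 0x103c18911c1c1) (nat_lit 2306))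
) (.node (nat_lit 0x103c18911e1c1) (.leaf (nat_lit 0x103c18911e181) (nat_lit 2306))
 (.leaf (nat_lit 0x103c18911e1c1) (nat_lit 2306))
)) (.node (nat_lit 0x103c1891fed89) (.node (nat_lit 0x103c1891fcdc9) (.leaf (nat_lit 0x103c1891fcd89) (nat_lit 2049))
 (.leaf (nat_lit 0x103c1891fcdc9) (nat_lit 2050))
) (.node (nat_lit 0x103c1891fedc9) (.leaf (nat_lit 0x103c1891fed89) (nat_lit 2050))
 (.leaf (nat_lit 0x103c1891fedc9) (nat_lit 2050))
)))))) (.node (nat_lit 0x103c58101c181) (.node (nat_lit 0x103c50901c101) (.node (nat_lit 0x103c50111c101) (.node (nat_lit 0x103c5010fc909) (.node (nat_lit 0x103c50101e101) (.node (nat_lit 0x103c50101c141) (.leaf (nat_lit 0x103c50101c101) (nat_lit 1282))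
 (.leaf (nat_lit 0x103c50101c141) (nat_lit 2305))
) (.node (nat_lit 0x103c50101e141) (.leaf (nat_lit 0x103c50101e101) (nat_lit 2305))
 (.leaf (nat_lit 0x103c50101e141) (nat_lit 1794))
)) (.node (nat_lit 0x103c5010fe909) (.node (nat_lit 0x103c5010fc949) (.leaf (nat_lit 0x103c5010fc909) (nat_lit 1538))
 (.leaf (nat_lit 0x103c5010fc949) (nat_lit 2561))
) (.node (nat_lit 0x103c5010fe949) (.leaf (nat_lit 0x103c5010fe909) (nat_lit 2561))
 (.leaf (nat_lit 0x103c5010fe949) (nat_lit 2050))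
))) (.node (nat_lit 0x103c5011fc909) (.node (nat_lit 0x103c50111e101) (.node (nat_lit 0x103c50111c141) (.leaf (nat_lit 0x103c50111c101) (nat_lit 2817))
 (.leaf (nat_lit 0x103c50111c141) (nat_lit 1794))
) (.node (nat_lit 0x103c50111e141) (.leaf (nat_lit 0x103c50111e101) (nat_lit 1794))
 (.leaf (nat_lit 0x103c50111e141) (nat_lit 2305))
)) (.node (nat_lit 0x103c5011fe909) (.node (nat_lit 0x103c5011fc949) (.leaf (nat_lit 0x103c5011fc909) (nat_lit 2561))
 (.leaf (nat_lit 0x103c5011fc949) (nat_lit 1538))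
) (.node (nat_lit 0x103c5011fe949) (.leaf (nat_lit 0x103c5011fe909) (nat_lit 1538))
 (.leaf (nat_lit 0x103c5011fe949) (nat_lit 2049))
)))) (.node (nat_lit 0x103c50911c101) (.node (nat_lit 0x103c5090fc909) (.node (nat_lit 0x103c50901e101) (.node (nat_lit 0x103c50901c141) (.leaf (nat_lit 0x103c50901c101) (nat_lit 1537))
 (.leaf (nat_lit 0x103c50901c141) (nat_lit 2048))
) (.node (nat_lit 0x103c50901e141) (.leaf (nat_lit 0x103c50901e101) (nat_lit 2048))
 (.leaf (nat_lit 0x103c50901e141) (nat_lit 2049))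
)) (.node (nat_lit 0x103c5090fe909) (.node (nat_lit 0x103c5090fc949) (.leaf (nat_lit 0x103c5090fc909) (nat_lit 1793))
 (.leaf (nat_lit 0x103c5090fc949) (nat_lit 2304))
) (.node (nat_lit 0x103c5090fe949) (.leaf (nat_lit 0x103c5090fe909) (nat_lit 2304))
 (.leaf (nat_lit 0x103c5090fe949) (nat_lit 2305))
))) (.node (nat_lit 0x103c5091fc909) (.node (nat_lit 0x103c50911e101) (.node (nat_lit 0x103c50911c141) (.leaf (nat_lit 0x103c50911c101) (nat_lit 2560))
 (.leaf (nat_lit 0x103c50911c141) (nat_lit 2049))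
) (.node (nat_lit 0x103c50911e141) (.leaf (nat_lit 0x103c50911e101) (nat_lit 2049))
 (.leaf (nat_lit 0x103c50911e141) (nat_lit 2048))
)) (.node (nat_lit 0x103c5091fe909) (.node (nat_lit 0x103c5091fc949) (.leaf (nat_lit 0x103c5091fc909) (nat_lit 2304))
 (.leaf (nat_lit 0x103c5091fc949) (nat_lit 1793))
) (.node (nat_lit 0x103c5091fe949) (.leaf (nat_lit 0x103c5091fe909) (nat_lit 1793))
 (.leaf (nat_lit 0x103c5091fe949) (nat_lit 1792))
))))) (.node (nat_lit 0x103c58901c181) (.node (nat_lit 0x103c58111c181) (.node (nat_lit 0x103c5810fcd89) (.node (nat_lit 0x103c58101e181) (.node (nat_lit 0x103c58101c1c1) (.leaf (nat_lit 0x103c58101c181) (nat_lit 1027))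
 (.leaf (nat_lit 0x103c58101c1c1) (nat_lit 1539))
) (.node (nat_lit 0x103c58101e1c1) (.leaf (nat_lit 0x103c58101e181) (nat_lit 2562))
 (.leaf (nat_lit 0x103c58101e1c1) (nat_lit 2561))
)) (.node (nat_lit 0x103c5810fed89) (.node (nat_lit 0x103c5810fcdc9) (.leaf (nat_lit 0x103c5810fcd89) (nat_lit 1283))
 (.leaf (nat_lit 0x103c5810fcdc9) (nat_lit 1795))
) (.node (nat_lit 0x103c5810fedc9) (.leaf (nat_lit 0x103c5810fed89) (nat_lit 2818))
 (.leaf (nat_lit 0x103c5810fedc9) (nat_lit 2817))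
))) (.node (nat_lit 0x103c5811fcd89) (.node (nat_lit 0x103c58111e181) (.node (nat_lit 0x103c58111c1c1) (.leaf (nat_lit 0x103c58111c181) (nat_lit 2561))
 (.leaf (nat_lit 0x103c58111c1c1) (nat_lit 2562))
) (.node (nat_lit 0x103c58111e1c1) (.leaf (nat_lit 0x103c58111e181) (nat_lit 1539))
 (.leaf (nat_lit 0x103c58111e1c1) (nat_lit 1539))
)) (.node (nat_lit 0x103c5811fed89) (.node (nat_lit 0x103c5811fcdc9) (.leaf (nat_lit 0x103c5811fcd89) (nat_lit 2305))
 (.leaf (nat_lit 0x103c5811fcdc9) (nat_lit 2306))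
) (.node (nat_lit 0x103c5811fedc9) (.leaf (nat_lit 0x103c5811fed89) (nat_lit 1283))
 (.leaf (nat_lit 0x103c5811fedc9) (nat_lit 1283))
)))) (.node (nat_lit 0x103c58911c181) (.node (nat_lit 0x103c5890fcd89) (.node (nat_lit 0x103c58901e181) (.node (nat_lit 0x103c58901c1c1) (.leaf (nat_lit 0x103c58901c181) (nat_lit 771))
 (.leaf (nat_lit 0x103c58901c1c1) (nat_lit 1795))
) (.node (nat_lit 0x103c58901e1c1) (.leaf (nat_lit 0x103c58901e181) (nat_lit 2819))
 (.leaf (nat_lit 0x103c58901e1c1) (nat_lit 2306))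
)) (.node (nat_lit 0x103c5890fed89) (.node (nat_lit 0x103c5890fcdc9) (.leaf (nat_lit 0x103c5890fcd89) (nat_lit 1027))
 (.leaf (nat_lit 0x103c5890fcdc9) (nat_lit 2051))
) (.node (nat_lit 0x103c5890fedc9) (.leaf (nat_lit 0x103c5890fed89) (nat_lit 2563))
 (.leaf (nat_lit 0x103c5890fedc9) (nat_lit 2562))
))) (.node (nat_lit 0x103c5891fcd89) (.node (nat_lit 0x103c58911e181) (.node (nat_lit 0x103c58911c1c1) (.leaf (nat_lit 0x103c58911c181) (nat_lit 2306))
 (.leaf (nat_lit 0x103c58911c1c1) (nat_lit 2817))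
) (.node (nat_lit 0x103c58911e1c1) (.leaf (nat_lit 0x103c58911e181) (nat_lit 1795))
 (.leaf (nat_lit 0x103c58911e1c1) (nat_lit 1283))
)) (.node (nat_lit 0x103c5891fed89) (.node (nat_lit 0x103c5891fcdc9) (.leaf (nat_lit 0x103c5891fcd89) (nat_lit 2050))
 (.leaf (nat_lit 0x103c5891fcdc9) (nat_lit 2561))
) (.node (nat_lit 0x103c5891fedc9) (.leaf (nat_lit 0x103c5891fed89) (nat_lit 1539))
 (.leaf (nat_lit 0x103c5891fedc9) (nat_lit 1027))
))))))))))

theorem T7_ok : genOK A7 [(nat_lit 0x1010101090909), (nat_lit 0x1010109010101), (nat_lit 0x1010181010181), (nat_lit 0x1018101018101)] T7_t (nat_lit 1024) = true := by decide +kernel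

noncomputable def R7_t : ST :=
(.node (nat_lit 0x1030101010101) (.node (nat_lit 0x1010501010101) (.node (nat_lit 0x1010109010101) (.node (nat_lit 0x1010101110101) (.node (nat_lit 0x1010101012101) (.node (nat_lit 0x1010101010141) (.leaf (nat_lit 0x1010101010101) (nat_lit 0))
 (.leaf (nat_lit 0x1010101010141) (nat_lit 256))
) (.node (nat_lit 0x1010101012141) (.leaf (nat_lit 0x1010101012101) (nat_lit 257))
 (.leaf (nat_lit 0x1010101012141) (nat_lit 513))
)) (.node (nat_lit 0x1010101112101) (.node (nat_lit 0x1010101110141) (.leaf (nat_lit 0x1010101110101) (nat_lit 258))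
 (.leaf (nat_lit 0x1010101110141) (nat_lit 514))
) (.node (nat_lit 0x1010101112141) (.leaf (nat_lit 0x1010101112101) (nat_lit 514))
 (.leaf (nat_lit 0x1010101112141) (nat_lit 770))
))) (.node (nat_lit 0x1010109110101) (.node (nat_lit 0x1010109012101) (.node (nat_lit 0x1010109010141) (.leaf (nat_lit 0x1010109010101) (nat_lit 259))
 (.leaf (nat_lit 0x1010109010141) (nat_lit 515))
) (.node (nat_lit 0x1010109012141) (.leaf (nat_lit 0x1010109012101) (nat_lit 515))
 (.leaf (nat_lit 0x1010109012141) (nat_lit 771))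
)) (.node (nat_lit 0x1010109112101) (.node (nat_lit 0x1010109110141) (.leaf (nat_lit 0x1010109110101) (nat_lit 515))
 (.leaf (nat_lit 0x1010109110141) (nat_lit 771))
) (.node (nat_lit 0x1010109112141) (.leaf (nat_lit 0x1010109112101) (nat_lit 771))
 (.leaf (nat_lit 0x1010109112141) (nat_lit 1027))
)))) (.node (nat_lit 0x1010509010101) (.node (nat_lit 0x1010501110101) (.node (nat_lit 0x1010501012101) (.node (nat_lit 0x1010501010141) (.leaf (nat_lit 0x1010501010101) (nat_lit 260))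
 (.leaf (nat_lit 0x1010501010141) (nat_lit 516))
) (.node (nat_lit 0x1010501012141) (.leaf (nat_lit 0x1010501012101) (nat_lit 516))
 (.leaf (nat_lit 0x1010501012141) (nat_lit 772))
)) (.node (nat_lit 0x1010501112101) (.node (nat_lit 0x1010501110141) (.leaf (nat_lit 0x1010501110101) (nat_lit 516))
 (.leaf (nat_lit 0x1010501110141) (nat_lit 772))
) (.node (nat_lit 0x1010501112141) (.leaf (nat_lit 0x1010501112101) (nat_lit 772))
 (.leaf (nat_lit 0x1010501112141) (nat_lit 1028))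
))) (.node (nat_lit 0x1010509110101) (.node (nat_lit 0x1010509012101) (.node (nat_lit 0x1010509010141) (.leaf (nat_lit 0x1010509010101) (nat_lit 516))
 (.leaf (nat_lit 0x1010509010141) (nat_lit 772))
) (.node (nat_lit 0x1010509012141) (.leaf (nat_lit 0x1010509012101) (nat_lit 772))
 (.leaf (nat_lit 0x1010509012141) (nat_lit 1028))
)) (.node (nat_lit 0x1010509112101) (.node (nat_lit 0x1010509110141) (.leaf (nat_lit 0x1010509110101) (nat_lit 772))
 (.leaf (nat_lit 0x1010509110141) (nat_lit 1028))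
) (.node (nat_lit 0x1010509112141) (.leaf (nat_lit 0x1010509112101) (nat_lit 1028))
 (.leaf (nat_lit 0x1010509112141) (nat_lit 1284))
))))) (.node (nat_lit 0x1030501010101) (.node (nat_lit 0x1030109010101) (.node (nat_lit 0x1030101110101) (.node (nat_lit 0x1030101012101) (.node (nat_lit 0x1030101010141) (.leaf (nat_lit 0x1030101010101) (nat_lit 261))
 (.leaf (nat_lit 0x1030101010141) (nat_lit 517))
) (.node (nat_lit 0x1030101012141) (.leaf (nat_lit 0x1030101012101) (nat_lit 517))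
 (.leaf (nat_lit 0x1030101012141) (nat_lit 773))
)) (.node (nat_lit 0x1030101112101) (.node (nat_lit 0x1030101110141) (.leaf (nat_lit 0x1030101110101) (nat_lit 517))
 (.leaf (nat_lit 0x1030101110141) (nat_lit 773))
) (.node (nat_lit 0x1030101112141) (.leaf (nat_lit 0x1030101112101) (nat_lit 773))
 (.leaf (nat_lit 0x1030101112141) (nat_lit 1029))
))) (.node (nat_lit 0x1030109110101) (.node (nat_lit 0x1030109012101) (.node (nat_lit 0x1030109010141) (.leaf (nat_lit 0x1030109010101) (nat_lit 517))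
 (.leaf (nat_lit 0x1030109010141) (nat_lit 773))
) (.node (nat_lit 0x1030109012141) (.leaf (nat_lit 0x1030109012101) (nat_lit 773))
 (.leaf (nat_lit 0x1030109012141) (nat_lit 1029))
)) (.node (nat_lit 0x1030109112101) (.node (nat_lit 0x1030109110141) (.leaf (nat_lit 0x1030109110101) (nat_lit 773))
 (.leaf (nat_lit 0x1030109110141) (nat_lit 1029))
) (.node (nat_lit 0x1030109112141) (.leaf (nat_lit 0x1030109112101) (nat_lit 1029))
 (.leaf (nat_lit 0x1030109112141) (nat_lit 1285))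
)))) (.node (nat_lit 0x1030509010101) (.node (nat_lit 0x1030501110101) (.node (nat_lit 0x1030501012101) (.node (nat_lit 0x1030501010141) (.leaf (nat_lit 0x1030501010101) (nat_lit 517))
 (.leaf (nat_lit 0x1030501010141) (nat_lit 773))
) (.node (nat_lit 0x1030501012141) (.leaf (nat_lit 0x1030501012101) (nat_lit 773))
 (.leaf (nat_lit 0x1030501012141) (nat_lit 1029))
)) (.node (nat_lit 0x1030501112101) (.node (nat_lit 0x1030501110141) (.leaf (nat_lit 0x1030501110101) (nat_lit 773))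
 (.leaf (nat_lit 0x1030501110141) (nat_lit 1029))
) (.node (nat_lit 0x1030501112141) (.leaf (nat_lit 0x1030501112101) (nat_lit 1029))
 (.leaf (nat_lit 0x1030501112141) (nat_lit 1285))
))) (.node (nat_lit 0x1030509110101) (.node (nat_lit 0x1030509012101) (.node (nat_lit 0x1030509010141) (.leaf (nat_lit 0x1030509010101) (nat_lit 773))
 (.leaf (nat_lit 0x1030509010141) (nat_lit 1029))
) (.node (nat_lit 0x1030509012141) (.leaf (nat_lit 0x1030509012101) (nat_lit 1029))
 (.leaf (nat_lit 0x1030509012141) (nat_lit 1285))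
)) (.node (nat_lit 0x1030509112101) (.node (nat_lit 0x1030509110141) (.leaf (nat_lit 0x1030509110101) (nat_lit 1029))
 (.leaf (nat_lit 0x1030509110141) (nat_lit 1285))
) (.node (nat_lit 0x1030509112141) (.leaf (nat_lit 0x1030509112101) (nat_lit 1285))
 (.leaf (nat_lit 0x1030509112141) (nat_lit 1541))
))))))

theorem R7_ok : genOK A7 [(nat_lit 0x1010101010141), (nat_lit 0x1010101012101), (nat_lit 0x1010101110101), (nat_lit 0x1010109010101), (nat_lit 0x1010501010101), (nat_lit 0x1030101010101)] R7_t (nat_lit 64) = true := by decide +kernel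

noncomputable def Q7_t : ST :=
(.node (nat_lit 0x1030101010101) (.node (nat_lit 0x1014101014101) (.node (nat_lit 0x1010501010101) (.node (nat_lit 0x1010181010181) (.node (nat_lit 0x1010101110101) (.node (nat_lit 0x1010101012101) (.leaf (nat_lit 0x1010101010101) (nat_lit 0))
 (.leaf (nat_lit 0x1010101012101) (nat_lit 261))
) (.node (nat_lit 0x1010101112101) (.leaf (nat_lit 0x1010101110101) (nat_lit 258))
 (.leaf (nat_lit 0x1010101112101) (nat_lit 517))
)) (.node (nat_lit 0x1010181110181) (.node (nat_lit 0x1010181012181) (.leaf (nat_lit 0x1010181010181) (nat_lit 259))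
 (.leaf (nat_lit 0x1010181012181) (nat_lit 517))
) (.node (nat_lit 0x1010181112181) (.leaf (nat_lit 0x1010181110181) (nat_lit 515))
 (.leaf (nat_lit 0x1010181112181) (nat_lit 773))
))) (.node (nat_lit 0x1010581010181) (.node (nat_lit 0x1010501110101) (.node (nat_lit 0x1010501012101) (.leaf (nat_lit 0x1010501010101) (nat_lit 260))
 (.leaf (nat_lit 0x1010501012101) (nat_lit 517))
) (.node (nat_lit 0x1010501112101) (.leaf (nat_lit 0x1010501110101) (nat_lit 516))
 (.leaf (nat_lit 0x1010501112101) (nat_lit 773))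
)) (.node (nat_lit 0x1010581110181) (.node (nat_lit 0x1010581012181) (.leaf (nat_lit 0x1010581010181) (nat_lit 516))
 (.leaf (nat_lit 0x1010581012181) (nat_lit 773))
) (.node (nat_lit 0x1010581112181) (.leaf (nat_lit 0x1010581110181) (nat_lit 772))
 (.leaf (nat_lit 0x1010581112181) (nat_lit 1029))
)))) (.node (nat_lit 0x1014501014101) (.node (nat_lit 0x1014181014181) (.node (nat_lit 0x1014101114101) (.node (nat_lit 0x1014101016101) (.leaf (nat_lit 0x1014101014101) (nat_lit 256))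
 (.leaf (nat_lit 0x1014101016101) (nat_lit 517))
) (.node (nat_lit 0x1014101116101) (.leaf (nat_lit 0x1014101114101) (nat_lit 514))
 (.leaf (nat_lit 0x1014101116101) (nat_lit 773))
)) (.node (nat_lit 0x1014181114181) (.node (nat_lit 0x1014181016181) (.leaf (nat_lit 0x1014181014181) (nat_lit 515))
 (.leaf (nat_lit 0x1014181016181) (nat_lit 773))
) (.node (nat_lit 0x1014181116181) (.leaf (nat_lit 0x1014181114181) (nat_lit 771))
 (.leaf (nat_lit 0x1014181116181) (nat_lit 1029))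
))) (.node (nat_lit 0x1014581014181) (.node (nat_lit 0x1014501114101) (.node (nat_lit 0x1014501016101) (.leaf (nat_lit 0x1014501014101) (nat_lit 516))
 (.leaf (nat_lit 0x1014501016101) (nat_lit 773))
) (.node (nat_lit 0x1014501116101) (.leaf (nat_lit 0x1014501114101) (nat_lit 772))
 (.leaf (nat_lit 0x1014501116101) (nat_lit 1029))
)) (.node (nat_lit 0x1014581114181) (.node (nat_lit 0x1014581016181) (.leaf (nat_lit 0x1014581014181) (nat_lit 772))
 (.leaf (nat_lit 0x1014581016181) (nat_lit 1029))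
) (.node (nat_lit 0x1014581116181) (.leaf (nat_lit 0x1014581114181) (nat_lit 1028))
 (.leaf (nat_lit 0x1014581116181) (nat_lit 1285))
))))) (.node (nat_lit 0x1034101014101) (.node (nat_lit 0x1030501010101) (.node (nat_lit 0x1030181010181) (.node (nat_lit 0x1030101110101) (.node (nat_lit 0x1030101012101) (.leaf (nat_lit 0x1030101010101) (nat_lit 257))
 (.leaf (nat_lit 0x1030101012101) (nat_lit 517))
) (.node (nat_lit 0x1030101112101) (.leaf (nat_lit 0x1030101110101) (nat_lit 514))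
 (.leaf (nat_lit 0x1030101112101) (nat_lit 773))
)) (.node (nat_lit 0x1030181110181) (.node (nat_lit 0x1030181012181) (.leaf (nat_lit 0x1030181010181) (nat_lit 515))
 (.leaf (nat_lit 0x1030181012181) (nat_lit 773))
) (.node (nat_lit 0x1030181112181) (.leaf (nat_lit 0x1030181110181) (nat_lit 771))
 (.leaf (nat_lit 0x1030181112181) (nat_lit 1029))
))) (.node (nat_lit 0x1030581010181) (.node (nat_lit 0x1030501110101) (.node (nat_lit 0x1030501012101) (.leaf (nat_lit 0x1030501010101) (nat_lit 516))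
 (.leaf (nat_lit 0x1030501012101) (nat_lit 773))
) (.node (nat_lit 0x1030501112101) (.leaf (nat_lit 0x1030501110101) (nat_lit 772))
 (.leaf (nat_lit 0x1030501112101) (nat_lit 1029))
)) (.node (nat_lit 0x1030581110181) (.node (nat_lit 0x1030581012181) (.leaf (nat_lit 0x1030581010181) (nat_lit 772))
 (.leaf (nat_lit 0x1030581012181) (nat_lit 1029))
) (.node (nat_lit 0x1030581112181) (.leaf (nat_lit 0x1030581110181) (nat_lit 1028))
 (.leaf (nat_lit 0x1030581112181) (nat_lit 1285))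
)))) (.node (nat_lit 0x1034501014101) (.node (nat_lit 0x1034181014181) (.node (nat_lit 0x1034101114101) (.node (nat_lit 0x1034101016101) (.leaf (nat_lit 0x1034101014101) (nat_lit 513))
 (.leaf (nat_lit 0x1034101016101) (nat_lit 773))
) (.node (nat_lit 0x1034101116101) (.leaf (nat_lit 0x1034101114101) (nat_lit 770))
 (.leaf (nat_lit 0x1034101116101) (nat_lit 1029))
)) (.node (nat_lit 0x1034181114181) (.node (nat_lit 0x1034181016181) (.leaf (nat_lit 0x1034181014181) (nat_lit 771))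
 (.leaf (nat_lit 0x1034181016181) (nat_lit 1029))
) (.node (nat_lit 0x1034181116181) (.leaf (nat_lit 0x1034181114181) (nat_lit 1027))
 (.leaf (nat_lit 0x1034181116181) (nat_lit 1285))
))) (.node (nat_lit 0x1034581014181) (.node (nat_lit 0x1034501114101) (.node (nat_lit 0x1034501016101) (.leaf (nat_lit 0x1034501014101) (nat_lit 772))
 (.leaf (nat_lit 0x1034501016101) (nat_lit 1029))
) (.node (nat_lit 0x1034501116101) (.leaf (nat_lit 0x1034501114101) (nat_lit 1028))
 (.leaf (nat_lit 0x1034501116101) (nat_lit 1285))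
)) (.node (nat_lit 0x1034581114181) (.node (nat_lit 0x1034581016181) (.leaf (nat_lit 0x1034581014181) (nat_lit 1028))
 (.leaf (nat_lit 0x1034581016181) (nat_lit 1285))
) (.node (nat_lit 0x1034581116181) (.leaf (nat_lit 0x1034581114181) (nat_lit 1284))
 (.leaf (nat_lit 0x1034581116181) (nat_lit 1541))
))))))

theorem Q7_ok : genOK A7 [(nat_lit 0x1014101014101), (nat_lit 0x1030101010101), (nat_lit 0x1010101110101), (nat_lit 0x1010181010181), (nat_lit 0x1010501010101), (nat_lit 0x1010101012101)] Q7_t (nat_lit 64) = true := by decide +kernel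

noncomputable def E7_t : ST :=
(.node (nat_lit 0x1030101010101) (.node (nat_lit 0x1010501010101) (.node (nat_lit 0x1010101110101) (.node (nat_lit 0x1010101012101) (.leaf (nat_lit 0x1010101010101) (nat_lit 0))
 (.leaf (nat_lit 0x1010101012101) (nat_lit 256))
) (.node (nat_lit 0x1010101112101) (.leaf (nat_lit 0x1010101110101) (nat_lit 257))
 (.leaf (nat_lit 0x1010101112101) (nat_lit 513))
)) (.node (nat_lit 0x1010501110101) (.node (nat_lit 0x1010501012101) (.leaf (nat_lit 0x1010501010101) (nat_lit 258))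
 (.leaf (nat_lit 0x1010501012101) (nat_lit 514))
) (.node (nat_lit 0x1010501112101) (.leaf (nat_lit 0x1010501110101) (nat_lit 514))
 (.leaf (nat_lit 0x1010501112101) (nat_lit 770))
))) (.node (nat_lit 0x1030501010101) (.node (nat_lit 0x1030101110101) (.node (nat_lit 0x1030101012101) (.leaf (nat_lit 0x1030101010101) (nat_lit 259))
 (.leaf (nat_lit 0x1030101012101) (nat_lit 515))
) (.node (nat_lit 0x1030101112101) (.leaf (nat_lit 0x1030101110101) (nat_lit 515))
 (.leaf (nat_lit 0x1030101112101) (nat_lit 771))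
)) (.node (nat_lit 0x1030501110101) (.node (nat_lit 0x1030501012101) (.leaf (nat_lit 0x1030501010101) (nat_lit 515))
 (.leaf (nat_lit 0x1030501012101) (nat_lit 771))
) (.node (nat_lit 0x1030501112101) (.leaf (nat_lit 0x1030501110101) (nat_lit 771))
 (.leaf (nat_lit 0x1030501112101) (nat_lit 1027))
))))

theorem E7_ok : genOK A7 [(nat_lit 0x1010101012101), (nat_lit 0x1010101110101), (nat_lit 0x1010501010101), (nat_lit 0x1030101010101)] E7_t (nat_lit 16) = true := by decide +kernel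

noncomputable def V7_t : ST :=
(.node (nat_lit 0x1030101010101) (.node (nat_lit 0x1018101018101) (.node (nat_lit 0x1014101014101) (.node (nat_lit 0x1010101110101) (.leaf (nat_lit 0x1010101010101) (nat_lit 0))
 (.leaf (nat_lit 0x1010101110101) (nat_lit 256))
) (.node (nat_lit 0x1014101114101) (.leaf (nat_lit 0x1014101014101) (nat_lit 258))
 (.leaf (nat_lit 0x1014101114101) (nat_lit 514))
)) (.node (nat_lit 0x101c10101c101) (.node (nat_lit 0x1018101118101) (.leaf (nat_lit 0x1018101018101) (nat_lit 259))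
 (.leaf (nat_lit 0x1018101118101) (nat_lit 515))
) (.node (nat_lit 0x101c10111c101) (.leaf (nat_lit 0x101c10101c101) (nat_lit 515))
 (.leaf (nat_lit 0x101c10111c101) (nat_lit 771))
))) (.node (nat_lit 0x1038101018101) (.node (nat_lit 0x1034101014101) (.node (nat_lit 0x1030101110101) (.leaf (nat_lit 0x1030101010101) (nat_lit 257))
 (.leaf (nat_lit 0x1030101110101) (nat_lit 513))
) (.node (nat_lit 0x1034101114101) (.leaf (nat_lit 0x1034101014101) (nat_lit 514))
 (.leaf (nat_lit 0x1034101114101) (nat_lit 770))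
)) (.node (nat_lit 0x103c10101c101) (.node (nat_lit 0x1038101118101) (.leaf (nat_lit 0x1038101018101) (nat_lit 515))
 (.leaf (nat_lit 0x1038101118101) (nat_lit 771))
) (.node (nat_lit 0x103c10111c101) (.leaf (nat_lit 0x103c10101c101) (nat_lit 771))
 (.leaf (nat_lit 0x103c10111c101) (nat_lit 1027))
))))

theorem V7_ok : genOK A7 [(nat_lit 0x1010101110101), (nat_lit 0x1030101010101), (nat_lit 0x1014101014101), (nat_lit 0x1018101018101)] V7_t (nat_lit 16) = true := by decide +kernel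

noncomputable def U7_t : ST :=
(.node (nat_lit 0x1030101010101) (.node (nat_lit 0x1010101110101) (.leaf (nat_lit 0x1010101010101) (nat_lit 0))
 (.leaf (nat_lit 0x1010101110101) (nat_lit 256))
) (.node (nat_lit 0x1030101110101) (.leaf (nat_lit 0x1030101010101) (nat_lit 257))
 (.leaf (nat_lit 0x1030101110101) (nat_lit 513))
))

theorem U7_ok : genOK A7 [(nat_lit 0x1010101110101), (nat_lit 0x1030101010101)] U7_t (nat_lit 4) = true := by decide +kernel

noncomputable def V_t : ST :=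
(.node (nat_lit 0x10c1041) (.node (nat_lit 0x1045041) (.node (nat_lit 0x1041241) (.node (nat_lit 0x1041051) (.leaf (nat_lit 0x1041041) (nat_lit 0))
 (.leaf (nat_lit 0x1041051) (nat_lit 256))
) (.node (nat_lit 0x1041251) (.leaf (nat_lit 0x1041241) (nat_lit 257))
 (.leaf (nat_lit 0x1041251) (nat_lit 513))
)) (.node (nat_lit 0x1045241) (.node (nat_lit 0x1045051) (.leaf (nat_lit 0x1045041) (nat_lit 258))
 (.leaf (nat_lit 0x1045051) (nat_lit 514))
) (.node (nat_lit 0x1045251) (.leaf (nat_lit 0x1045241) (nat_lit 514))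
 (.leaf (nat_lit 0x1045251) (nat_lit 770))
))) (.node (nat_lit 0x10c5041) (.node (nat_lit 0x10c1241) (.node (nat_lit 0x10c1051) (.leaf (nat_lit 0x10c1041) (nat_lit 259))
 (.leaf (nat_lit 0x10c1051) (nat_lit 515))
) (.node (nat_lit 0x10c1251) (.leaf (nat_lit 0x10c1241) (nat_lit 515))
 (.leaf (nat_lit 0x10c1251) (nat_lit 771))
)) (.node (nat_lit 0x10c5241) (.node (nat_lit 0x10c5051) (.leaf (nat_lit 0x10c5041) (nat_lit 515))
 (.leaf (nat_lit 0x10c5051) (nat_lit 771))
) (.node (nat_lit 0x10c5251) (.leaf (nat_lit 0x10c5241) (nat_lit 771))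
 (.leaf (nat_lit 0x10c5251) (nat_lit 1027))
))))

theorem V_ok : genOK A [(nat_lit 0x1041051), (nat_lit 0x1041241), (nat_lit 0x1045041), (nat_lit 0x10c1041)] V_t (nat_lit 16) = true := by decide +kernel

noncomputable def U_t : ST :=
(.node (nat_lit 0x1041241) (.node (nat_lit 0x1041051) (.leaf (nat_lit 0x1041041) (nat_lit 0))
 (.leaf (nat_lit 0x1041051) (nat_lit 256))
) (.node (nat_lit 0x1041251) (.leaf (nat_lit 0x1041241) (nat_lit 257))
 (.leaf (nat_lit 0x1041251) (nat_lit 513))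
))

theorem U_ok : genOK A [(nat_lit 0x1041051), (nat_lit 0x1041241)] U_t (nat_lit 4) = true := by decide +kernel

noncomputable def J_t : ST :=
(.node (nat_lit 0x1045041) (.node (nat_lit 0x1043041) (.node (nat_lit 0x1041241) (.node (nat_lit 0x1041141) (.node (nat_lit 0x10410c1) (.node (nat_lit 0x1041051) (.node (nat_lit 0x1041049) (.node (nat_lit 0x1041045) (.leaf (nat_lit 0x1041041) (nat_lit 0))
 (.leaf (nat_lit 0x1041045) (nat_lit 256))
) (.node (nat_lit 0x104104d) (.leaf (nat_lit 0x1041049) (nat_lit 1026))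
 (.leaf (nat_lit 0x104104d) (nat_lit 770))
)) (.node (nat_lit 0x1041059) (.node (nat_lit 0x1041055) (.leaf (nat_lit 0x1041051) (nat_lit 1027))
 (.leaf (nat_lit 0x1041055) (nat_lit 771))
) (.node (nat_lit 0x104105d) (.leaf (nat_lit 0x1041059) (nat_lit 1539))
 (.leaf (nat_lit 0x104105d) (nat_lit 1283))
))) (.node (nat_lit 0x10410d1) (.node (nat_lit 0x10410c9) (.node (nat_lit 0x10410c5) (.leaf (nat_lit 0x10410c1) (nat_lit 257))
 (.leaf (nat_lit 0x10410c5) (nat_lit 513))
) (.node (nat_lit 0x10410cd) (.leaf (nat_lit 0x10410c9) (nat_lit 1282))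
 (.leaf (nat_lit 0x10410cd) (nat_lit 1026))
)) (.node (nat_lit 0x10410d9) (.node (nat_lit 0x10410d5) (.leaf (nat_lit 0x10410d1) (nat_lit 1283))
 (.leaf (nat_lit 0x10410d5) (nat_lit 1027))
) (.node (nat_lit 0x10410dd) (.leaf (nat_lit 0x10410d9) (nat_lit 1795))
 (.leaf (nat_lit 0x10410dd) (nat_lit 1539))
)))) (.node (nat_lit 0x10411c1) (.node (nat_lit 0x1041151) (.node (nat_lit 0x1041149) (.node (nat_lit 0x1041145) (.leaf (nat_lit 0x1041141) (nat_lit 1026))
 (.leaf (nat_lit 0x1041145) (nat_lit 1282))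
) (.node (nat_lit 0x104114d) (.leaf (nat_lit 0x1041149) (nat_lit 1538))
 (.leaf (nat_lit 0x104114d) (nat_lit 1282))
)) (.node (nat_lit 0x1041159) (.node (nat_lit 0x1041155) (.leaf (nat_lit 0x1041151) (nat_lit 2051))
 (.leaf (nat_lit 0x1041155) (nat_lit 1795))
) (.node (nat_lit 0x104115d) (.leaf (nat_lit 0x1041159) (nat_lit 2051))
 (.leaf (nat_lit 0x104115d) (nat_lit 1795))
))) (.node (nat_lit 0x10411d1) (.node (nat_lit 0x10411c9) (.node (nat_lit 0x10411c5) (.leaf (nat_lit 0x10411c1) (nat_lit 770))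
 (.leaf (nat_lit 0x10411c5) (nat_lit 1026))
) (.node (nat_lit 0x10411cd) (.leaf (nat_lit 0x10411c9) (nat_lit 1282))
 (.leaf (nat_lit 0x10411cd) (nat_lit 1026))
)) (.node (nat_lit 0x10411d9) (.node (nat_lit 0x10411d5) (.leaf (nat_lit 0x10411d1) (nat_lit 1795))
 (.leaf (nat_lit 0x10411d5) (nat_lit 1539))
) (.node (nat_lit 0x10411dd) (.leaf (nat_lit 0x10411d9) (nat_lit 1795))
 (.leaf (nat_lit 0x10411dd) (nat_lit 1539))
))))) (.node (nat_lit 0x1041341) (.node (nat_lit 0x10412c1) (.node (nat_lit 0x1041251) (.node (nat_lit 0x1041249) (.node (nat_lit 0x1041245) (.leaf (nat_lit 0x1041241) (nat_lit 1027))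
 (.leaf (nat_lit 0x1041245) (nat_lit 1283))
) (.node (nat_lit 0x104124d) (.leaf (nat_lit 0x1041249) (nat_lit 2051))
 (.leaf (nat_lit 0x104124d) (nat_lit 1795))
)) (.node (nat_lit 0x1041259) (.node (nat_lit 0x1041255) (.leaf (nat_lit 0x1041251) (nat_lit 1539))
 (.leaf (nat_lit 0x1041255) (nat_lit 1283))
) (.node (nat_lit 0x104125d) (.leaf (nat_lit 0x1041259) (nat_lit 2051))
 (.leaf (nat_lit 0x104125d) (nat_lit 1795))
))) (.node (nat_lit 0x10412d1) (.node (nat_lit 0x10412c9) (.node (nat_lit 0x10412c5) (.leaf (nat_lit 0x10412c1) (nat_lit 771))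
 (.leaf (nat_lit 0x10412c5) (nat_lit 1027))
) (.node (nat_lit 0x10412cd) (.leaf (nat_lit 0x10412c9) (nat_lit 1795))
 (.leaf (nat_lit 0x10412cd) (nat_lit 1539))
)) (.node (nat_lit 0x10412d9) (.node (nat_lit 0x10412d5) (.leaf (nat_lit 0x10412d1) (nat_lit 1283))
 (.leaf (nat_lit 0x10412d5) (nat_lit 1027))
) (.node (nat_lit 0x10412dd) (.leaf (nat_lit 0x10412d9) (nat_lit 1795))
 (.leaf (nat_lit 0x10412dd) (nat_lit 1539))
)))) (.node (nat_lit 0x10413c1) (.node (nat_lit 0x1041351) (.node (nat_lit 0x1041349) (.node (nat_lit 0x1041345) (.leaf (nat_lit 0x1041341) (nat_lit 1539))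
 (.leaf (nat_lit 0x1041345) (nat_lit 1795))
) (.node (nat_lit 0x104134d) (.leaf (nat_lit 0x1041349) (nat_lit 2051))
 (.leaf (nat_lit 0x104134d) (nat_lit 1795))
)) (.node (nat_lit 0x1041359) (.node (nat_lit 0x1041355) (.leaf (nat_lit 0x1041351) (nat_lit 2051))
 (.leaf (nat_lit 0x1041355) (nat_lit 1795))
) (.node (nat_lit 0x104135d) (.leaf (nat_lit 0x1041359) (nat_lit 2051))
 (.leaf (nat_lit 0x104135d) (nat_lit 1795))
))) (.node (nat_lit 0x10413d1) (.node (nat_lit 0x10413c9) (.node (nat_lit 0x10413c5) (.leaf (nat_lit 0x10413c1) (nat_lit 1283))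
 (.leaf (nat_lit 0x10413c5) (nat_lit 1539))
) (.node (nat_lit 0x10413cd) (.leaf (nat_lit 0x10413c9) (nat_lit 1795))
 (.leaf (nat_lit 0x10413cd) (nat_lit 1539))
)) (.node (nat_lit 0x10413d9) (.node (nat_lit 0x10413d5) (.leaf (nat_lit 0x10413d1) (nat_lit 1795))
 (.leaf (nat_lit 0x10413d5) (nat_lit 1539))
) (.node (nat_lit 0x10413dd) (.leaf (nat_lit 0x10413d9) (nat_lit 1795))
 (.leaf (nat_lit 0x10413dd) (nat_lit 1539))
)))))) (.node (nat_lit 0x1043241) (.node (nat_lit 0x1043141) (.node (nat_lit 0x10430c1) (.node (nat_lit 0x1043051) (.node (nat_lit 0x1043049) (.node (nat_lit 0x1043045) (.leaf (nat_lit 0x1043041) (nat_lit 258))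
 (.leaf (nat_lit 0x1043045) (nat_lit 514))
) (.node (nat_lit 0x104304d) (.leaf (nat_lit 0x1043049) (nat_lit 768))
 (.leaf (nat_lit 0x104304d) (nat_lit 512))
)) (.node (nat_lit 0x1043059) (.node (nat_lit 0x1043055) (.leaf (nat_lit 0x1043051) (nat_lit 1283))
 (.leaf (nat_lit 0x1043055) (nat_lit 1027))
) (.node (nat_lit 0x104305d) (.leaf (nat_lit 0x1043059) (nat_lit 1283))
 (.leaf (nat_lit 0x104305d) (nat_lit 1027))
))) (.node (nat_lit 0x10430d1) (.node (nat_lit 0x10430c9) (.node (nat_lit 0x10430c5) (.leaf (nat_lit 0x10430c1) (nat_lit 514))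
 (.leaf (nat_lit 0x10430c5) (nat_lit 770))
) (.node (nat_lit 0x10430cd) (.leaf (nat_lit 0x10430c9) (nat_lit 1024))
 (.leaf (nat_lit 0x10430cd) (nat_lit 768))
)) (.node (nat_lit 0x10430d9) (.node (nat_lit 0x10430d5) (.leaf (nat_lit 0x10430d1) (nat_lit 1539))
 (.leaf (nat_lit 0x10430d5) (nat_lit 1283))
) (.node (nat_lit 0x10430dd) (.leaf (nat_lit 0x10430d9) (nat_lit 1539))
 (.leaf (nat_lit 0x10430dd) (nat_lit 1283))
)))) (.node (nat_lit 0x10431c1) (.node (nat_lit 0x1043151) (.node (nat_lit 0x1043149) (.node (nat_lit 0x1043145) (.leaf (nat_lit 0x1043141) (nat_lit 769))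
 (.leaf (nat_lit 0x1043145) (nat_lit 1025))
) (.node (nat_lit 0x104314d) (.leaf (nat_lit 0x1043149) (nat_lit 1281))
 (.leaf (nat_lit 0x104314d) (nat_lit 1025))
)) (.node (nat_lit 0x1043159) (.node (nat_lit 0x1043155) (.leaf (nat_lit 0x1043151) (nat_lit 1793))
 (.leaf (nat_lit 0x1043155) (nat_lit 1537))
) (.node (nat_lit 0x104315d) (.leaf (nat_lit 0x1043159) (nat_lit 1795))
 (.leaf (nat_lit 0x104315d) (nat_lit 1539))
))) (.node (nat_lit 0x10431d1) (.node (nat_lit 0x10431c9) (.node (nat_lit 0x10431c5) (.leaf (nat_lit 0x10431c1) (nat_lit 513))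
 (.leaf (nat_lit 0x10431c5) (nat_lit 769))
) (.node (nat_lit 0x10431cd) (.leaf (nat_lit 0x10431c9) (nat_lit 1025))
 (.leaf (nat_lit 0x10431cd) (nat_lit 769))
)) (.node (nat_lit 0x10431d9) (.node (nat_lit 0x10431d5) (.leaf (nat_lit 0x10431d1) (nat_lit 1537))
 (.leaf (nat_lit 0x10431d5) (nat_lit 1281))
) (.node (nat_lit 0x10431dd) (.leaf (nat_lit 0x10431d9) (nat_lit 1539))
 (.leaf (nat_lit 0x10431dd) (nat_lit 1283))
))))) (.node (nat_lit 0x1043341) (.node (nat_lit 0x10432c1) (.node (nat_lit 0x1043251) (.node (nat_lit 0x1043249) (.node (nat_lit 0x1043245) (.leaf (nat_lit 0x1043241) (nat_lit 1283))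
 (.leaf (nat_lit 0x1043245) (nat_lit 1539))
) (.node (nat_lit 0x104324d) (.leaf (nat_lit 0x1043249) (nat_lit 1792))
 (.leaf (nat_lit 0x104324d) (nat_lit 1536))
)) (.node (nat_lit 0x1043259) (.node (nat_lit 0x1043255) (.leaf (nat_lit 0x1043251) (nat_lit 1795))
 (.leaf (nat_lit 0x1043255) (nat_lit 1539))
) (.node (nat_lit 0x104325d) (.leaf (nat_lit 0x1043259) (nat_lit 1795))
 (.leaf (nat_lit 0x104325d) (nat_lit 1539))
))) (.node (nat_lit 0x10432d1) (.node (nat_lit 0x10432c9) (.node (nat_lit 0x10432c5) (.leaf (nat_lit 0x10432c1) (nat_lit 1027))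
 (.leaf (nat_lit 0x10432c5) (nat_lit 1283))
) (.node (nat_lit 0x10432cd) (.leaf (nat_lit 0x10432c9) (nat_lit 1536))
 (.leaf (nat_lit 0x10432cd) (nat_lit 1280))
)) (.node (nat_lit 0x10432d9) (.node (nat_lit 0x10432d5) (.leaf (nat_lit 0x10432d1) (nat_lit 1539))
 (.leaf (nat_lit 0x10432d5) (nat_lit 1283))
) (.node (nat_lit 0x10432dd) (.leaf (nat_lit 0x10432d9) (nat_lit 1539))
 (.leaf (nat_lit 0x10432dd) (nat_lit 1283))
)))) (.node (nat_lit 0x10433c1) (.node (nat_lit 0x1043351) (.node (nat_lit 0x1043349) (.node (nat_lit 0x1043345) (.leaf (nat_lit 0x1043341) (nat_lit 1283))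
 (.leaf (nat_lit 0x1043345) (nat_lit 1539))
) (.node (nat_lit 0x104334d) (.leaf (nat_lit 0x1043349) (nat_lit 1795))
 (.leaf (nat_lit 0x104334d) (nat_lit 1539))
)) (.node (nat_lit 0x1043359) (.node (nat_lit 0x1043355) (.leaf (nat_lit 0x1043351) (nat_lit 1795))
 (.leaf (nat_lit 0x1043355) (nat_lit 1539))
) (.node (nat_lit 0x104335d) (.leaf (nat_lit 0x1043359) (nat_lit 1795))
 (.leaf (nat_lit 0x104335d) (nat_lit 1539))
))) (.node (nat_lit 0x10433d1) (.node (nat_lit 0x10433c9) (.node (nat_lit 0x10433c5) (.leaf (nat_lit 0x10433c1) (nat_lit 1027))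
 (.leaf (nat_lit 0x10433c5) (nat_lit 1283))
) (.node (nat_lit 0x10433cd) (.leaf (nat_lit 0x10433c9) (nat_lit 1539))
 (.leaf (nat_lit 0x10433cd) (nat_lit 1283))
)) (.node (nat_lit 0x10433d9) (.node (nat_lit 0x10433d5) (.leaf (nat_lit 0x10433d1) (nat_lit 1539))
 (.leaf (nat_lit 0x10433d5) (nat_lit 1283))
) (.node (nat_lit 0x10433dd) (.leaf (nat_lit 0x10433d9) (nat_lit 1539))
 (.leaf (nat_lit 0x10433dd) (nat_lit 1283))
))))))) (.node (nat_lit 0x1047041) (.node (nat_lit 0x1045241) (.node (nat_lit 0x1045141) (.node (nat_lit 0x10450c1) (.node (nat_lit 0x1045051) (.node (nat_lit 0x1045049) (.node (nat_lit 0x1045045) (.leaf (nat_lit 0x1045041) (nat_lit 259))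
 (.leaf (nat_lit 0x1045045) (nat_lit 515))
) (.node (nat_lit 0x104504d) (.leaf (nat_lit 0x1045049) (nat_lit 1283))
 (.leaf (nat_lit 0x104504d) (nat_lit 1027))
)) (.node (nat_lit 0x1045059) (.node (nat_lit 0x1045055) (.leaf (nat_lit 0x1045051) (nat_lit 768))
 (.leaf (nat_lit 0x1045055) (nat_lit 512))
) (.node (nat_lit 0x104505d) (.leaf (nat_lit 0x1045059) (nat_lit 1282))
 (.leaf (nat_lit 0x104505d) (nat_lit 1026))
))) (.node (nat_lit 0x10450d1) (.node (nat_lit 0x10450c9) (.node (nat_lit 0x10450c5) (.leaf (nat_lit 0x10450c1) (nat_lit 515))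
 (.leaf (nat_lit 0x10450c5) (nat_lit 771))
) (.node (nat_lit 0x10450cd) (.leaf (nat_lit 0x10450c9) (nat_lit 1539))
 (.leaf (nat_lit 0x10450cd) (nat_lit 1283))
)) (.node (nat_lit 0x10450d9) (.node (nat_lit 0x10450d5) (.leaf (nat_lit 0x10450d1) (nat_lit 1024))
 (.leaf (nat_lit 0x10450d5) (nat_lit 768))
) (.node (nat_lit 0x10450dd) (.leaf (nat_lit 0x10450d9) (nat_lit 1538))
 (.leaf (nat_lit 0x10450dd) (nat_lit 1282))
)))) (.node (nat_lit 0x10451c1) (.node (nat_lit 0x1045151) (.node (nat_lit 0x1045149) (.node (nat_lit 0x1045145) (.leaf (nat_lit 0x1045141) (nat_lit 1283))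
 (.leaf (nat_lit 0x1045145) (nat_lit 1539))
) (.node (nat_lit 0x104514d) (.leaf (nat_lit 0x1045149) (nat_lit 1795))
 (.leaf (nat_lit 0x104514d) (nat_lit 1539))
)) (.node (nat_lit 0x1045159) (.node (nat_lit 0x1045155) (.leaf (nat_lit 0x1045151) (nat_lit 1792))
 (.leaf (nat_lit 0x1045155) (nat_lit 1536))
) (.node (nat_lit 0x104515d) (.leaf (nat_lit 0x1045159) (nat_lit 1794))
 (.leaf (nat_lit 0x104515d) (nat_lit 1538))
))) (.node (nat_lit 0x10451d1) (.node (nat_lit 0x10451c9) (.node (nat_lit 0x10451c5) (.leaf (nat_lit 0x10451c1) (nat_lit 1027))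
 (.leaf (nat_lit 0x10451c5) (nat_lit 1283))
) (.node (nat_lit 0x10451cd) (.leaf (nat_lit 0x10451c9) (nat_lit 1539))
 (.leaf (nat_lit 0x10451cd) (nat_lit 1283))
)) (.node (nat_lit 0x10451d9) (.node (nat_lit 0x10451d5) (.leaf (nat_lit 0x10451d1) (nat_lit 1536))
 (.leaf (nat_lit 0x10451d5) (nat_lit 1280))
) (.node (nat_lit 0x10451dd) (.leaf (nat_lit 0x10451d9) (nat_lit 1538))
 (.leaf (nat_lit 0x10451dd) (nat_lit 1282))
))))) (.node (nat_lit 0x1045341) (.node (nat_lit 0x10452c1) (.node (nat_lit 0x1045251) (.node (nat_lit 0x1045249) (.node (nat_lit 0x1045245) (.leaf (nat_lit 0x1045241) (nat_lit 769))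
 (.leaf (nat_lit 0x1045245) (nat_lit 1025))
) (.node (nat_lit 0x104524d) (.leaf (nat_lit 0x1045249) (nat_lit 1793))
 (.leaf (nat_lit 0x104524d) (nat_lit 1537))
)) (.node (nat_lit 0x1045259) (.node (nat_lit 0x1045255) (.leaf (nat_lit 0x1045251) (nat_lit 1281))
 (.leaf (nat_lit 0x1045255) (nat_lit 1025))
) (.node (nat_lit 0x104525d) (.leaf (nat_lit 0x1045259) (nat_lit 1793))
 (.leaf (nat_lit 0x104525d) (nat_lit 1537))
))) (.node (nat_lit 0x10452d1) (.node (nat_lit 0x10452c9) (.node (nat_lit 0x10452c5) (.leaf (nat_lit 0x10452c1) (nat_lit 513))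
 (.leaf (nat_lit 0x10452c5) (nat_lit 769))
) (.node (nat_lit 0x10452cd) (.leaf (nat_lit 0x10452c9) (nat_lit 1537))
 (.leaf (nat_lit 0x10452cd) (nat_lit 1281))
)) (.node (nat_lit 0x10452d9) (.node (nat_lit 0x10452d5) (.leaf (nat_lit 0x10452d1) (nat_lit 1025))
 (.leaf (nat_lit 0x10452d5) (nat_lit 769))
) (.node (nat_lit 0x10452dd) (.leaf (nat_lit 0x10452d9) (nat_lit 1537))
 (.leaf (nat_lit 0x10452dd) (nat_lit 1281))
)))) (.node (nat_lit 0x10453c1) (.node (nat_lit 0x1045351) (.node (nat_lit 0x1045349) (.node (nat_lit 0x1045345) (.leaf (nat_lit 0x1045341) (nat_lit 1282))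
 (.leaf (nat_lit 0x1045345) (nat_lit 1538))
) (.node (nat_lit 0x104534d) (.leaf (nat_lit 0x1045349) (nat_lit 1794))
 (.leaf (nat_lit 0x104534d) (nat_lit 1538))
)) (.node (nat_lit 0x1045359) (.node (nat_lit 0x1045355) (.leaf (nat_lit 0x1045351) (nat_lit 1792))
 (.leaf (nat_lit 0x1045355) (nat_lit 1536))
) (.node (nat_lit 0x104535d) (.leaf (nat_lit 0x1045359) (nat_lit 1794))
 (.leaf (nat_lit 0x104535d) (nat_lit 1538))
))) (.node (nat_lit 0x10453d1) (.node (nat_lit 0x10453c9) (.node (nat_lit 0x10453c5) (.leaf (nat_lit 0x10453c1) (nat_lit 1026))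
 (.leaf (nat_lit 0x10453c5) (nat_lit 1282))
) (.node (nat_lit 0x10453cd) (.leaf (nat_lit 0x10453c9) (nat_lit 1538))
 (.leaf (nat_lit 0x10453cd) (nat_lit 1282))
)) (.node (nat_lit 0x10453d9) (.node (nat_lit 0x10453d5) (.leaf (nat_lit 0x10453d1) (nat_lit 1536))
 (.leaf (nat_lit 0x10453d5) (nat_lit 1280))
) (.node (nat_lit 0x10453dd) (.leaf (nat_lit 0x10453d9) (nat_lit 1538))
 (.leaf (nat_lit 0x10453dd) (nat_lit 1282))
)))))) (.node (nat_lit 0x1047241) (.node (nat_lit 0x1047141) (.node (nat_lit 0x10470c1) (.node (nat_lit 0x1047051) (.node (nat_lit 0x1047049) (.node (nat_lit 0x1047045) (.leaf (nat_lit 0x1047041) (nat_lit 515))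
 (.leaf (nat_lit 0x1047045) (nat_lit 771))
) (.node (nat_lit 0x104704d) (.leaf (nat_lit 0x1047049) (nat_lit 1027))
 (.leaf (nat_lit 0x104704d) (nat_lit 771))
)) (.node (nat_lit 0x1047059) (.node (nat_lit 0x1047055) (.leaf (nat_lit 0x1047051) (nat_lit 1026))
 (.leaf (nat_lit 0x1047055) (nat_lit 770))
) (.node (nat_lit 0x104705d) (.leaf (nat_lit 0x1047059) (nat_lit 1024))
 (.leaf (nat_lit 0x104705d) (nat_lit 768))
))) (.node (nat_lit 0x10470d1) (.node (nat_lit 0x10470c9) (.node (nat_lit 0x10470c5) (.leaf (nat_lit 0x10470c1) (nat_lit 771))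
 (.leaf (nat_lit 0x10470c5) (nat_lit 1027))
) (.node (nat_lit 0x10470cd) (.leaf (nat_lit 0x10470c9) (nat_lit 1283))
 (.leaf (nat_lit 0x10470cd) (nat_lit 1027))
)) (.node (nat_lit 0x10470d9) (.node (nat_lit 0x10470d5) (.leaf (nat_lit 0x10470d1) (nat_lit 1282))
 (.leaf (nat_lit 0x10470d5) (nat_lit 1026))
) (.node (nat_lit 0x10470dd) (.leaf (nat_lit 0x10470d9) (nat_lit 1280))
 (.leaf (nat_lit 0x10470dd) (nat_lit 1024))
)))) (.node (nat_lit 0x10471c1) (.node (nat_lit 0x1047151) (.node (nat_lit 0x1047149) (.node (nat_lit 0x1047145) (.leaf (nat_lit 0x1047141) (nat_lit 1027))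
 (.leaf (nat_lit 0x1047145) (nat_lit 1283))
) (.node (nat_lit 0x104714d) (.leaf (nat_lit 0x1047149) (nat_lit 1539))
 (.leaf (nat_lit 0x104714d) (nat_lit 1283))
)) (.node (nat_lit 0x1047159) (.node (nat_lit 0x1047155) (.leaf (nat_lit 0x1047151) (nat_lit 1537))
 (.leaf (nat_lit 0x1047155) (nat_lit 1281))
) (.node (nat_lit 0x104715d) (.leaf (nat_lit 0x1047159) (nat_lit 1536))
 (.leaf (nat_lit 0x104715d) (nat_lit 1280))
))) (.node (nat_lit 0x10471d1) (.node (nat_lit 0x10471c9) (.node (nat_lit 0x10471c5) (.leaf (nat_lit 0x10471c1) (nat_lit 771))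
 (.leaf (nat_lit 0x10471c5) (nat_lit 1027))
) (.node (nat_lit 0x10471cd) (.leaf (nat_lit 0x10471c9) (nat_lit 1283))
 (.leaf (nat_lit 0x10471cd) (nat_lit 1027))
)) (.node (nat_lit 0x10471d9) (.node (nat_lit 0x10471d5) (.leaf (nat_lit 0x10471d1) (nat_lit 1280))
 (.leaf (nat_lit 0x10471d5) (nat_lit 1536))
) (.node (nat_lit 0x10471dd) (.leaf (nat_lit 0x10471d9) (nat_lit 1280))
 (.leaf (nat_lit 0x10471dd) (nat_lit 1024))
))))) (.node (nat_lit 0x1047341) (.node (nat_lit 0x10472c1) (.node (nat_lit 0x1047251) (.node (nat_lit 0x1047249) (.node (nat_lit 0x1047245) (.leaf (nat_lit 0x1047241) (nat_lit 1026))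
 (.leaf (nat_lit 0x1047245) (nat_lit 1282))
) (.node (nat_lit 0x104724d) (.leaf (nat_lit 0x1047249) (nat_lit 1537))
 (.leaf (nat_lit 0x104724d) (nat_lit 1281))
)) (.node (nat_lit 0x1047259) (.node (nat_lit 0x1047255) (.leaf (nat_lit 0x1047251) (nat_lit 1538))
 (.leaf (nat_lit 0x1047255) (nat_lit 1282))
) (.node (nat_lit 0x104725d) (.leaf (nat_lit 0x1047259) (nat_lit 1536))
 (.leaf (nat_lit 0x104725d) (nat_lit 1280))
))) (.node (nat_lit 0x10472d1) (.node (nat_lit 0x10472c9) (.node (nat_lit 0x10472c5) (.leaf (nat_lit 0x10472c1) (nat_lit 770))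
 (.leaf (nat_lit 0x10472c5) (nat_lit 1026))
) (.node (nat_lit 0x10472cd) (.leaf (nat_lit 0x10472c9) (nat_lit 1280))
 (.leaf (nat_lit 0x10472cd) (nat_lit 1536))
)) (.node (nat_lit 0x10472d9) (.node (nat_lit 0x10472d5) (.leaf (nat_lit 0x10472d1) (nat_lit 1282))
 (.leaf (nat_lit 0x10472d5) (nat_lit 1026))
) (.node (nat_lit 0x10472dd) (.leaf (nat_lit 0x10472d9) (nat_lit 1280))
 (.leaf (nat_lit 0x10472dd) (nat_lit 1024))
)))) (.node (nat_lit 0x10473c1) (.node (nat_lit 0x1047351) (.node (nat_lit 0x1047349) (.node (nat_lit 0x1047345) (.leaf (nat_lit 0x1047341) (nat_lit 1025))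
 (.leaf (nat_lit 0x1047345) (nat_lit 1281))
) (.node (nat_lit 0x104734d) (.leaf (nat_lit 0x1047349) (nat_lit 1537))
 (.leaf (nat_lit 0x104734d) (nat_lit 1281))
)) (.node (nat_lit 0x1047359) (.node (nat_lit 0x1047355) (.leaf (nat_lit 0x1047351) (nat_lit 1537))
 (.leaf (nat_lit 0x1047355) (nat_lit 1281))
) (.node (nat_lit 0x104735d) (.leaf (nat_lit 0x1047359) (nat_lit 1537))
 (.leaf (nat_lit 0x104735d) (nat_lit 1281))
))) (.node (nat_lit 0x10473d1) (.node (nat_lit 0x10473c9) (.node (nat_lit 0x10473c5) (.leaf (nat_lit 0x10473c1) (nat_lit 769))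
 (.leaf (nat_lit 0x10473c5) (nat_lit 1025))
) (.node (nat_lit 0x10473cd) (.leaf (nat_lit 0x10473c9) (nat_lit 1281))
 (.leaf (nat_lit 0x10473cd) (nat_lit 1025))
)) (.node (nat_lit 0x10473d9) (.node (nat_lit 0x10473d5) (.leaf (nat_lit 0x10473d1) (nat_lit 1281))
 (.leaf (nat_lit 0x10473d5) (nat_lit 1025))
) (.node (nat_lit 0x10473dd) (.leaf (nat_lit 0x10473d9) (nat_lit 1281))
 (.leaf (nat_lit 0x10473dd) (nat_lit 1025))
))))))))

theorem J_ok : genOK A [(nat_lit 0x1041045), (nat_lit 0x10410c1), (nat_lit 0x1043041), (nat_lit 0x1045041)] J_t (nat_lit 256) = true := by decide +kernel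

end Cfsg.Agent.Wr
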